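import Mathlib.FieldTheory.Fixed
import Mathlib.FieldTheory.Finite.Basic
import Mathlib.FieldTheory.Finiteness
import Mathlib.Algebra.Group.Hom.End
import Mathlib.Algebra.Ring.Subring.Basic

/-!
An abelian group regular on the non-zero elements of a finite abelian group makes it a finite
field, on which the operators fixing the unit and normalising the abelian group act by field
automorphisms: they form a cyclic group, and the fixed points of each subgroup are given by Galois
theory.
-/

set_option autoImplicit false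
set_option linter.style.haveILetI false

namespace Cfsg.Agent.H62.Bender.Lambda

variable {E : Type*} [AddCommGroup E] [Finite E] {A : Type*} [CommGroup A]
  (α : A →* AddMonoid.End E) {e₀ : E} (he₀ : e₀ ≠ 0)
  (hreg : ∀ e : E, e ≠ 0 → ∃ a : A, α a e₀ = e)
  {F : Type*} [Group F] [Finite F] (β : F →* AddMonoid.End E) (hβ : Function.Injective β)
  (hβ₀ : ∀ f, β f e₀ = e₀) (hconj : ∀ f a, ∃ a' : A, β f * α a = α a' * β f)

include he₀ hreg hβ hβ₀ hconj in
theorem galois_data :
    IsCyclic F ∧ ∀ U : Subgroup F,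
      Nat.card {e : E // ∀ u ∈ U, β u e = e} ^ Nat.card U = Nat.card E := by
  classical
  let s : Set (AddMonoid.End E) := Set.range α
  let K : Subring (AddMonoid.End E) := Subring.centralizer s
  have hKmem : ∀ {x : AddMonoid.End E}, x ∈ K ↔ ∀ a : A, α a * x = x * α a := by
    intro x
    constructor
    · intro h a
      exact h _ ⟨a, rfl⟩
    · rintro h _ ⟨a, rfl⟩
      exact h a
  have hαK : ∀ a : A, α a ∈ K := fun a => hKmem.mpr fun b => by rw [← map_mul, ← map_mul, mul_comm]
  -- evaluation at the unit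
  have hext : ∀ x y : K, (x : AddMonoid.End E) e₀ = (y : AddMonoid.End E) e₀ → x = y := by
    intro x y h
    refine Subtype.ext (DFunLike.ext _ _ fun e => ?_)
    by_cases he : e = 0
    · rw [he, map_zero, map_zero]
    obtain ⟨a, rfl⟩ := hreg e he
    have hx := congrArg (fun z : AddMonoid.End E => z e₀) (hKmem.mp x.2 a)
    have hy := congrArg (fun z : AddMonoid.End E => z e₀) (hKmem.mp y.2 a)
    simp only [AddMonoid.End.coe_mul, Function.comp_apply] at hx hy
    rw [← hx, ← hy, h]
  have hval : ∀ e : E, ∃ x : K, (x : AddMonoid.End E) e₀ = e := by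
    intro e
    by_cases he : e = 0
    · exact ⟨0, by simp [he]⟩
    obtain ⟨a, ha⟩ := hreg e he
    exact ⟨⟨α a, hαK a⟩, ha⟩
  have hbij : Function.Bijective fun x : K => (x : AddMonoid.End E) e₀ := ⟨fun x y h => hext x y h, hval⟩
  haveI : Finite K := Finite.of_injective _ hbij.1
  have hne : ∀ x : K, x ≠ 0 → ∃ a : A, x = ⟨α a, hαK a⟩ := by
    intro x hx
    obtain ⟨a, ha⟩ := hreg ((x : AddMonoid.End E) e₀) fun h => hx (hext x 0 (by simpa using h))
    exact ⟨a, hext _ _ ha.symm⟩
  have hK : IsField K := by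
    refine ⟨⟨0, 1, fun h => he₀ ?_⟩, fun x y => ?_, fun {x} hx => ?_⟩
    · simpa using (congrArg (fun x : K => (x : AddMonoid.End E) e₀) h).symm
    · by_cases hx : x = 0
      · rw [hx, zero_mul, mul_zero]
      obtain ⟨a, rfl⟩ := hne x hx
      exact Subtype.ext (hKmem.mp y.2 a)
    · obtain ⟨a, rfl⟩ := hne x hx
      exact ⟨⟨α a⁻¹, hαK _⟩, Subtype.ext (show α a * α a⁻¹ = 1 by rw [← map_mul, mul_inv_cancel, map_one])⟩
  letI : Field K := hK.toField
  -- the action of `F`
  have hinv : ∀ f : F, β f * β f⁻¹ = 1 := fun f => by rw [← map_mul, mul_inv_cancel, map_one]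
  have hinv' : ∀ f : F, β f⁻¹ * β f = 1 := fun f => by rw [← map_mul, inv_mul_cancel, map_one]
  have hstable : ∀ (f : F) (x : K), β f * (x : AddMonoid.End E) * β f⁻¹ ∈ K := by
    intro f x
    refine hKmem.mpr fun a => ?_
    obtain ⟨a', ha'⟩ := hconj f⁻¹ a
    have h1 : β f * α a' = α a * β f := by
      calc β f * α a' = β f * α a' * (β f⁻¹ * β f) := by rw [hinv', mul_one]
        _ = β f * (α a' * β f⁻¹) * β f := by simp only [mul_assoc]
        _ = β f * (β f⁻¹ * α a) * β f := by rw [ha']
        _ = α a * β f := by rw [← mul_assoc (β f), hinv, one_mul]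
    calc α a * (β f * x * β f⁻¹) = (α a * β f) * x * β f⁻¹ := by simp only [mul_assoc]
      _ = β f * α a' * x * β f⁻¹ := by rw [h1]
      _ = β f * (x * α a') * β f⁻¹ := by rw [mul_assoc (β f), hKmem.mp x.2 a']
      _ = β f * x * (α a' * β f⁻¹) := by simp only [mul_assoc]
      _ = β f * x * β f⁻¹ * α a := by rw [← ha']; simp only [mul_assoc]
  let σ : F → K → K := fun f x => ⟨β f * x * β f⁻¹, hstable f x⟩
  letI : MulSemiringAction F K :=
    { smul := σ
      one_smul := fun x => Subtype.ext (show β 1 * (x : AddMonoid.End E) * β (1 : F)⁻¹ = x by simp)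
      mul_smul := fun f g x => Subtype.ext
        (show β (f * g) * (x : AddMonoid.End E) * β (f * g)⁻¹ = β f * (β g * x * β g⁻¹) * β f⁻¹ by
          simp only [mul_inv_rev, map_mul, mul_assoc])
      smul_zero := fun f => Subtype.ext (show β f * 0 * β f⁻¹ = 0 by simp)
      smul_add := fun f x y => Subtype.ext
        (show β f * ((x : AddMonoid.End E) + y) * β f⁻¹ = β f * x * β f⁻¹ + β f * y * β f⁻¹ by
          rw [mul_add, add_mul])
      smul_one := fun f => Subtype.ext (show β f * 1 * β f⁻¹ = 1 by rw [mul_one, hinv])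
      smul_mul := fun f x y => Subtype.ext
        (show β f * ((x : AddMonoid.End E) * y) * β f⁻¹ = β f * x * β f⁻¹ * (β f * y * β f⁻¹) by
          calc β f * ((x : AddMonoid.End E) * y) * β f⁻¹
              = β f * x * (β f⁻¹ * β f) * y * β f⁻¹ := by rw [hinv', mul_one]; simp only [mul_assoc]
            _ = β f * x * β f⁻¹ * (β f * y * β f⁻¹) := by simp only [mul_assoc]) }
  have heval : ∀ (f : F) (x : K),
      ((f • x : K) : AddMonoid.End E) e₀ = β f ((x : AddMonoid.End E) e₀) := by
    intro f x
    show β f ((x : AddMonoid.End E) (β f⁻¹ e₀)) = _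
    rw [hβ₀]
  haveI : FaithfulSMul F K := ⟨fun {f g} h => hβ (DFunLike.ext _ _ fun e => by
    obtain ⟨x, rfl⟩ := hval e
    rw [← heval, ← heval, h x])⟩
  refine ⟨isCyclic_of_injective (FixedPoints.toAlgAutMulEquiv F K).toMonoidHom
    (FixedPoints.toAlgAutMulEquiv F K).injective, fun U => ?_⟩
  haveI : Fintype U := Fintype.ofFinite U
  haveI : FaithfulSMul U K := ⟨fun {f g} h => Subtype.ext (eq_of_smul_eq_smul (α := K) h)⟩
  have hfix : Nat.card {e : E // ∀ u ∈ U, β u e = e} = Nat.card (FixedPoints.subfield U K) := by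
    refine (Nat.card_congr (Equiv.subtypeEquiv (Equiv.ofBijective _ hbij) fun x => ?_)).symm
    show (∀ u : U, u • x = x) ↔ ∀ u ∈ U, β u ((x : AddMonoid.End E) e₀) = (x : AddMonoid.End E) e₀
    constructor
    · intro h u hu
      rw [← heval]
      exact congrArg (fun y : K => (y : AddMonoid.End E) e₀) (h ⟨u, hu⟩)
    · intro h u
      exact hext _ _ ((heval u x).trans (h u u.2))
  rw [hfix, ← Nat.card_congr (Equiv.ofBijective _ hbij),
    Module.natCard_eq_pow_finrank (K := FixedPoints.subfield U K) (V := K),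
    FixedPoints.finrank_eq_card U K, Nat.card_eq_fintype_card (α := U)]

end Cfsg.Agent.H62.Bender.Lambda
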