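import Cfsg.Agent.H62.Bender.Lambda.Statement
import Cfsg.Agent.H62.Bender.Lambda.Galois
import Cfsg.Agent.H73.Bender.ClosedLine
import Cfsg.Agent.Coprime.SchurZassenhaus

/-!
The involutions at `c` form a field on which the centraliser of the swapper in the pair stabiliser
acts as a group of field automorphisms.
-/

set_option autoImplicit false
set_option linter.style.haveILetI false

namespace Cfsg.Agent.H62.Bender.Lambda

open Subgroup MulAction
open Cfsg.Agent.H39
open Cfsg.Agent.H73.Bender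
open Cfsg.Agent.H53.SE
open Cfsg.Agent.Cores.SE

universe u

variable {G : Type u} [Group G] [Finite G] {Ω : Type u} [MulAction G Ω] [Finite Ω]
  {S : Subgroup G} {C : Set Ω} {c b : Ω} {w : G}

/-- The centraliser of the swapper in the pair stabiliser. -/
def pairCent (S : Subgroup G) (c b : Ω) (w : G) : Subgroup G :=
  pair S c b ⊓ centralizer ({w} : Set G)

omit [Finite G] [Finite Ω] in
theorem mem_pairCent {d : G} : d ∈ pairCent S c b w ↔ d ∈ pair S c b ∧ Commute d w :=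
  and_congr_right fun _ => mem_centralizer_singleton_iff

theorem Hyp.good (h : Hyp S C c b w) : Good S C := (main G Ω S C h.se h.rankTwo).1

theorem Hyp.twoTrans (h : Hyp S C c b w) : TwoTrans S C := (main G Ω S C h.se h.rankTwo).2

omit [Finite G] [Finite Ω] in
theorem Hyp.mem_invGen_iff (h : Hyp S C c b w) {e : G} :
    e ∈ invGen S c ↔ e = 1 ∨ (e ∈ S ∧ orderOf e = 2 ∧ e • c = c) :=
  ⟨eq_or_inv_of_mem_invGen h.comm,
    fun he => he.elim (fun h' => h' ▸ one_mem _) fun h' => subset_closure h'⟩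

theorem Hyp.card_invGen (h : Hyp S C c b w) : Nat.card (invGen S c) = invBar S C c + 1 := by
  have hset : (invGen S c : Set G) = insert 1 {t | t ∈ S ∧ orderOf t = 2 ∧ t • c = c} :=
    Set.ext fun _ => h.mem_invGen_iff
  rw [invBar_eq_card h.faithful, show Nat.card (invGen S c) = (invGen S c : Set G).ncard from rfl,
    hset, Set.ncard_insert_of_notMem (fun h' => by
      have h'' := h'.2.1
      rw [orderOf_one] at h''
      exact absurd h'' (by norm_num)) (Set.toFinite _)]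
  rfl

/-- The elements inverted by the swapper, and an involution centralised by its centraliser. -/
theorem Hyp.exists_frame (h : Hyp S C c b w) :
    ∃ A : Subgroup G, ∃ t : G, (A : Set G) = invertedBy S c b w ∧ A ≤ pair S c b ∧
      pair S c b ≤ normalizer (A : Set G) ∧ IsCyclic A ∧ Nat.card A = invBar S C c ∧
      (∀ j ∈ A, ∀ s ∈ S, orderOf s = 2 → s • c = c → Commute j s → j = 1) ∧
      (∀ d ∈ pair S c b, ∃ j ∈ A, ∃ f ∈ pairCent S c b w, d = j * f) ∧
      (t ∈ S ∧ orderOf t = 2 ∧ t • c = c) ∧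
      (∀ d ∈ pair S c b, Commute d t ↔ d ∈ pairCent S c b w) ∧
      ∀ s ∈ S, orderOf s = 2 → s • c = c → ∃ j ∈ A, j * t * j⁻¹ = s := by
  obtain ⟨A, hAset, hAD, hAn, hAcyc, hAcard, hfpf, htr, hdec⟩ :=
    exists_inverted_subgroup h.se h.faithful h.good h.mem_left h.mem_right h.ne h.comm h.swap_mem
      h.swap_inv h.swap
  set D := pair S c b with hD
  set F := pairCent S c b w with hF
  have hFD : F ≤ D := inf_le_left
  have hFN : F ≤ normalizer (A : Set G) := hFD.trans hAn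
  have hDodd : Odd (Nat.card D) := h.se.odd_pair h.mem_left h.mem_right h.ne
  have hdec' : ∀ d ∈ D, ∃ j ∈ A, ∃ f ∈ F, d = j * f := fun d hd => by
    obtain ⟨j, hj, f, hf, hfw, e⟩ := hdec d hd
    exact ⟨j, hj, f, mem_pairCent.mpr ⟨hf, hfw⟩, e⟩
  have hAF : A ⊓ F = ⊥ := by
    refine eq_bot_iff.mpr fun x hx => ?_
    obtain ⟨hxA, hxF⟩ := hx
    have h1 : x ∈ invertedBy S c b w := hAset ▸ hxA
    have h2 : w * x * w⁻¹ = x := by rw [← (mem_pairCent.mp hxF).2.eq, mul_inv_cancel_right]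
    have hxx : x * x = 1 := by
      have h3 : x = x⁻¹ := h2.symm.trans h1.2
      nth_rewrite 2 [h3]
      exact mul_inv_cancel x
    rw [mem_bot]
    by_contra hne
    have hdvd := Subgroup.orderOf_dvd_natCard D (hAD hxA)
    rw [orderOf_eq_two_of_mul_self hxx hne, ← even_iff_two_dvd] at hdvd
    exact (Nat.not_even_iff_odd.mpr hDodd) hdvd
  obtain ⟨t, ht, ht2, htc⟩ := h.se.exists_inv_at h.mem_left
  set P : Subgroup G := D ⊓ centralizer ({t} : Set G) with hP
  have hPdec : ∀ d ∈ D, ∃ j ∈ A, ∃ p ∈ P, d = j * p := by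
    intro d hd
    obtain ⟨hdS, hdc, -⟩ := mem_pair.mp hd
    obtain ⟨j, hj, hjt⟩ := htr t ht ht2 htc (d * t * d⁻¹) (conj_mem_of_mem hdS ht)
      (by rw [orderOf_conj, ht2]) (by rw [mul_smul, mul_smul, inv_smul_eq_iff.mpr hdc.symm, htc, hdc])
    refine ⟨j, hj, j⁻¹ * d,
      Subgroup.mem_inf.mpr ⟨D.mul_mem (D.inv_mem (hAD hj)) hd, mem_centralizer_singleton_iff.mpr ?_⟩,
      by group⟩
    calc j⁻¹ * d * t = j⁻¹ * (d * t * d⁻¹) * d := by group
      _ = t * (j⁻¹ * d) := by rw [← hjt]; group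
  have hAP : A ⊓ P = ⊥ := eq_bot_iff.mpr fun x hx =>
    mem_bot.mpr (hfpf x hx.1 t ht ht2 htc (mem_centralizer_singleton_iff.mp hx.2.2))
  -- two complements of `A`
  have hcard : ∀ K : Subgroup G, K ≤ D → A ⊓ K = ⊥ → (∀ d ∈ D, ∃ j ∈ A, ∃ k ∈ K, d = j * k) →
      Nat.card D = Nat.card A * Nat.card K := by
    intro K hK hAK hsur
    rw [← Nat.card_prod]
    refine (Nat.card_congr (Equiv.ofBijective
      (fun p : A × K => (⟨(p.1 : G) * p.2, mul_mem (hAD p.1.2) (hK p.2.2)⟩ : D)) ⟨?_, ?_⟩)).symm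
    · rintro ⟨a, k⟩ ⟨a', k'⟩ e
      have e' : (a : G) * k = a' * k' := congrArg Subtype.val e
      have hm : (a' : G)⁻¹ * a = k' * (k : G)⁻¹ := by
        rw [eq_mul_inv_iff_mul_eq, mul_assoc, e', inv_mul_cancel_left]
      have h1 : (a' : G)⁻¹ * a ∈ A ⊓ K :=
        Subgroup.mem_inf.mpr ⟨A.mul_mem (A.inv_mem a'.2) a.2, hm ▸ K.mul_mem k'.2 (K.inv_mem k.2)⟩
      rw [hAK, mem_bot, inv_mul_eq_one] at h1
      have h2 : (k : G) = k' := mul_left_cancel (a := (a : G)) (by rw [e', h1])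
      exact Prod.ext (Subtype.ext h1.symm) (Subtype.ext h2)
    · rintro ⟨d, hd⟩
      obtain ⟨a, ha, k, hk, rfl⟩ := hsur d hd
      exact ⟨⟨⟨a, ha⟩, ⟨k, hk⟩⟩, rfl⟩
  have hFP : Nat.card P = Nat.card F := by
    have h1 := hcard F hFD hAF hdec'
    rw [hcard P inf_le_left hAP hPdec] at h1
    exact Nat.eq_of_mul_eq_mul_left Nat.card_pos h1
  have hcop : (Nat.card F).Coprime (Nat.card A) := hAcard ▸ h.coprime
  have hPle : P ≤ A ⊔ F := fun x hx => by
    obtain ⟨j, hj, f, hf, rfl⟩ := hdec' x hx.1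
    exact mul_mem_sup hj hf
  obtain ⟨n, hn, hconj⟩ := Coprime.exists_conj_of_le_sup hFN hPle hFP hcop
    (Or.inr (haveI := hAcyc; letI := IsCyclic.commGroup (α := A); inferInstance))
  obtain ⟨hnS, hnc, -⟩ := mem_pair.mp (hAD hn)
  have hnc' : n⁻¹ • c = c := by rw [inv_smul_eq_iff, hnc]
  have ht' : n⁻¹ * t * n ∈ S ∧ orderOf (n⁻¹ * t * n) = 2 ∧ (n⁻¹ * t * n) • c = c :=
    ⟨mul_mem (mul_mem (inv_mem hnS) ht) hnS,
      by rw [show n⁻¹ * t * n = n⁻¹ * t * n⁻¹⁻¹ by group, orderOf_conj, ht2],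
      by rw [mul_smul, mul_smul, hnc, htc, hnc']⟩
  have hiff : ∀ d ∈ D, Commute d (n⁻¹ * t * n) ↔ d ∈ F := by
    intro d hd
    have hnd : n * d * n⁻¹ ∈ D := mul_mem (mul_mem (hAD hn) hd) (inv_mem (hAD hn))
    rw [← Commute.conj_iff n, show n * (n⁻¹ * t * n) * n⁻¹ = t by group]
    constructor
    · intro hc
      have hx : n * d * n⁻¹ ∈ P := ⟨hnd, mem_centralizer_singleton_iff.mpr hc⟩
      rw [hconj] at hx
      obtain ⟨f, hf, e⟩ := hx
      have e' : f = d := by
        simpa [mul_assoc] using e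
      exact e' ▸ hf
    · intro hd'
      have hx : n * d * n⁻¹ ∈ P := hconj ▸ ⟨d, hd', rfl⟩
      exact mem_centralizer_singleton_iff.mp hx.2
  exact ⟨A, n⁻¹ * t * n, hAset, hAD, hAn, hAcyc, hAcard, hfpf, hdec', ht', hiff,
    fun s hs hs2 hsc => htr _ ht'.1 ht'.2.1 ht'.2.2 s hs hs2 hsc⟩

omit [Finite G] [Finite Ω] in
/-- The action on a subgroup as additive endomorphisms. -/
theorem exists_conjEnd {E K : Subgroup G} (hK : K ≤ normalizer (E : Set G)) :
    ∃ φ : K →* AddMonoid.End (Additive E),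
      ∀ (k : K) (e : Additive E), ((φ k e).toMul : G) = k * (e.toMul : G) * (k : G)⁻¹ := by
  let ψ : K →* MulAut E := E.normalizerMonoidHom.comp (Subgroup.inclusion hK)
  exact ⟨{ toFun := fun k => MonoidHom.toAdditive (ψ k).toMonoidHom
           map_one' := by rw [map_one]; rfl
           map_mul' := fun x y => by rw [map_mul]; rfl }, fun k e => rfl⟩

/-- The centraliser of the swapper is cyclic and the fixed points of its subgroups obey Galois
theory. -/
theorem Hyp.pairCent_galois (h : Hyp S C c b w) :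
    IsCyclic (pairCent S c b w) ∧ ∀ U : Subgroup G, U ≤ pairCent S c b w →
      Nat.card {e : G // e ∈ invGen S c ∧ ∀ u ∈ U, Commute u e} ^ Nat.card U =
        invBar S C c + 1 := by
  classical
  obtain ⟨A, t, hAset, hAD, hAn, hAcyc, hAcard, hfpf, hdec, ht, hiff, htr⟩ := h.exists_frame
  set E := invGen S c with hE
  set F := pairCent S c b w with hF
  have hDE : pair S c b ≤ normalizer (E : Set G) := pair_le_normalizer_invGen c b
  have hEc : ∀ x y : E, x * y = y * x := by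
    rintro ⟨x, hx⟩ ⟨y, hy⟩
    rcases h.mem_invGen_iff.mp hx with rfl | ⟨hx1, hx2, hxa⟩
    · exact Subtype.ext (by simp)
    rcases h.mem_invGen_iff.mp hy with rfl | ⟨hy1, hy2, hya⟩
    · exact Subtype.ext (by simp)
    exact Subtype.ext (h.comm x hx1 y hy1 hx2 hy2 hxa hya).eq
  letI : CommGroup E := { (inferInstance : Group E) with mul_comm := hEc }
  letI : CommGroup A := haveI := hAcyc; IsCyclic.commGroup
  obtain ⟨α, hα⟩ := exists_conjEnd (hAD.trans hDE)
  obtain ⟨β, hβ⟩ := exists_conjEnd ((inf_le_left : F ≤ pair S c b).trans hDE)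
  have htE : t ∈ E := h.mem_invGen_iff.mpr (Or.inr ht)
  set e₀ : Additive E := Additive.ofMul ⟨t, htE⟩ with he₀
  have hext : ∀ x y : Additive E, (x.toMul : G) = (y.toMul : G) → x = y := fun x y hxy =>
    Additive.toMul.injective (Subtype.ext hxy)
  have he₀ne : e₀ ≠ 0 := fun h0 => by
    have h1 : t = 1 := congrArg (fun e : Additive E => (e.toMul : G)) h0
    have h2 := ht.2.1
    rw [h1, orderOf_one] at h2
    exact absurd h2 (by norm_num)
  have hreg : ∀ e : Additive E, e ≠ 0 → ∃ a : A, α a e₀ = e := by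
    intro e he
    rcases h.mem_invGen_iff.mp e.toMul.2 with h1 | ⟨h1, h2, h3⟩
    · exact absurd (hext e 0 h1) he
    obtain ⟨j, hj, hjt⟩ := htr _ h1 h2 h3
    exact ⟨⟨j, hj⟩, hext _ _ ((hα _ _).trans hjt)⟩
  have hβ₀ : ∀ f : F, β f e₀ = e₀ := fun f => by
    refine hext _ _ ((hβ f e₀).trans ?_)
    show (f : G) * t * (f : G)⁻¹ = t
    rw [((hiff f (mem_pairCent.mp f.2).1).mpr f.2).eq, mul_inv_cancel_right]
  have hinj : Function.Injective β := by
    refine (injective_iff_map_eq_one β).mpr fun f hf => ?_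
    have hmem : (f : G) ∈ pair S c b ⊓ centralizer (E : Set G) := by
      refine ⟨(mem_pairCent.mp f.2).1, mem_centralizer_iff.mpr fun e he => ?_⟩
      have h1 := hβ f (Additive.ofMul ⟨e, he⟩)
      rw [hf] at h1
      exact mul_inv_eq_iff_eq_mul.mp h1.symm |>.symm
    rw [hE, h.pair_cent, mem_bot] at hmem
    exact Subtype.ext hmem
  have hconj : ∀ (f : F) (a : A), ∃ a' : A, β f * α a = α a' * β f := by
    intro f a
    have hm : (f : G) * a * (f : G)⁻¹ ∈ A :=
      (Subgroup.mem_normalizer_iff.mp (hAn (mem_pairCent.mp f.2).1) a).mp a.2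
    refine ⟨⟨_, hm⟩, DFunLike.ext _ _ fun e => hext _ _ ?_⟩
    refine (hβ f (α a e)).trans ?_
    refine Eq.trans ?_ (hα ⟨_, hm⟩ (β f e)).symm
    refine (congrArg (fun x : G => (f : G) * x * (f : G)⁻¹) (hα a e)).trans ?_
    refine Eq.trans ?_ (congrArg (fun x : G => (f : G) * a * (f : G)⁻¹ * x * ((f : G) * a * (f : G)⁻¹)⁻¹) (hβ f e)).symm
    group
  obtain ⟨hcyc, hfix⟩ := galois_data α he₀ne hreg β hinj hβ₀ hconj
  refine ⟨hcyc, fun U hU => ?_⟩
  have h1 := hfix (U.subgroupOf F)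
  have hU' : Nat.card (U.subgroupOf F) = Nat.card U :=
    Nat.card_congr (subgroupOfEquivOfLe hU).toEquiv
  replace h1 := (congrArg (Nat.card {e : Additive E // ∀ u ∈ U.subgroupOf F, β u e = e} ^ ·) hU').symm.trans h1
  have h3 : Nat.card (Additive E) = invBar S C c + 1 :=
    (Nat.card_congr Additive.toMul).trans h.card_invGen
  refine (congrArg (· ^ Nat.card U) (Nat.card_congr ?_)).trans (h1.trans h3)
  refine
    { toFun := fun e => ⟨Additive.ofMul ⟨e.1, e.2.1⟩, fun u hu => hext _ _ ?_⟩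
      invFun := fun e => ⟨(e.1.toMul : G), e.1.toMul.2, fun u hu => ?_⟩
      left_inv := fun e => rfl
      right_inv := fun e => rfl }
  · refine (hβ u _).trans ?_
    show (u : G) * e.1 * (u : G)⁻¹ = e.1
    rw [(e.2.2 u (mem_subgroupOf.mp hu)).eq, mul_inv_cancel_right]
  · have h2 : u * (e.1.toMul : G) * u⁻¹ = (e.1.toMul : G) := (hβ ⟨u, hU hu⟩ e.1).symm.trans
      (congrArg (fun x : Additive E => (x.toMul : G)) (e.2 ⟨u, hU hu⟩ (mem_subgroupOf.mpr hu)))
    exact mul_inv_eq_iff_eq_mul.mp h2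

end Cfsg.Agent.H62.Bender.Lambda
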