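import Cfsg.Agent.H62.Bender.Lambda.Statement
import Cfsg.Agent.H70.SE.FieldPrime
import Cfsg.Agent.H70.SE.GaloisOrder
import Cfsg.Agent.H73.Bender.ClosedLine

/-!
Step 4 of LAMBDA (`Targets.FieldPrime`): the hypotheses of `H70.SE.FieldLine` hold for `S` on `C`.
-/

set_option autoImplicit false
set_option linter.style.haveILetI false

namespace Cfsg.Agent.H62.Bender.Lambda

open Subgroup MulAction
open Cfsg.Agent.H39
open Cfsg.Agent.H73.Bender
open Cfsg.Agent.H53.SE
open Cfsg.Agent.Cores.SE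

universe u

variable {G : Type u} [Group G] {Ω : Type u} [MulAction G Ω] {S : Subgroup G} {C : Set Ω}

/-- The action of `S` on `C`. -/
@[reducible] def actionOn (hS : SE S C) : MulAction S C where
  smul g x := ⟨(g : G) • (x : Ω), hS.smul_mem g.2 x.2⟩
  one_smul x := Subtype.ext (one_smul G (x : Ω))
  mul_smul g g' x := Subtype.ext (mul_smul (g : G) (g' : G) (x : Ω))

/-- The hypotheses of the field line. -/
theorem exists_fieldLine [Finite G] [Finite Ω] {c b : Ω} {w : G} (h : Hyp S C c b w)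
    (hl : (Nat.card (pair S c b ⊓ centralizer ({w} : Set G) : Subgroup G)).Prime)
    (huniq : ∀ d ∈ pair S c b, Commute d w → d ≠ 1 →
      ∀ s ∈ S, orderOf s = 2 → s • c = c → Commute d s →
        ∀ t ∈ S, orderOf t = 2 → t • c = c → Commute d t → s = t) :
    letI := actionOn h.se
    ∃ (t f u : S) (A : Subgroup S),
      H70.SE.FieldLine (Nat.card (pair S c b ⊓ centralizer ({w} : Set G) : Subgroup G))
        (⟨c, h.mem_left⟩ : C) ⟨b, h.mem_right⟩ t f u A := by
  classical
  letI := actionOn h.se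
  obtain ⟨hG, hT⟩ := H73.Bender.main G Ω S C h.se h.rankTwo
  set F : Subgroup G := pair S c b ⊓ centralizer ({w} : Set G) with hFdef
  set l := Nat.card F with hldef
  obtain ⟨A, hAset, hAD, hAn, hAcyc, hAcard, hfpf, hreg, hdec⟩ :=
    exists_inverted_subgroup h.se h.faithful hG h.mem_left h.mem_right h.ne h.comm h.swap_mem
      h.swap_inv h.swap
  have hmemA : ∀ g : G, g ∈ A ↔ g ∈ pair S c b ∧ w * g * w⁻¹ = g⁻¹ := fun g =>
    (Set.ext_iff.1 hAset g)
  have hmemF : ∀ g : G, g ∈ F ↔ g ∈ pair S c b ∧ Commute g w := fun g => by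
    rw [hFdef, Subgroup.mem_inf, mem_centralizer_singleton_iff]; rfl
  have hm := invBar_eq_card (S := S) (C := C) h.faithful c
  set m := invBar S C c with hmdef
  have hAS : A ≤ S := fun g hg => (mem_pair.1 (hAD hg)).1
  have hodd := h.se.odd_pair h.mem_left h.mem_right h.ne
  have hsq1 : ∀ x ∈ pair S c b, x = x⁻¹ → x = 1 := by
    intro x hx hxi
    by_contra hne
    have h2 := orderOf_eq_two_of_mul_self (mul_eq_one_iff_eq_inv.mpr hxi) hne
    have h2D := Subgroup.orderOf_dvd_natCard _ hx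
    rw [h2, ← even_iff_two_dvd] at h2D
    exact (Nat.not_even_iff_odd.mpr hodd) h2D
  have hAF : ∀ x ∈ A, x ∈ F → x = 1 := fun x hx hx' => by
    refine hsq1 x (hAD hx) ?_
    rw [← ((hmemA x).1 hx).2, ← ((hmemF x).1 hx').2.eq, mul_inv_cancel_right]
  have hAc : ∀ x ∈ A, ∀ y ∈ A, x * y = y * x := fun x hx y hy =>
    haveI := hAcyc
    congrArg Subtype.val (mul_comm' (⟨x, hx⟩ : A) ⟨y, hy⟩)
  -- the generator of the centraliser of the swapper
  haveI := Fact.mk hl
  obtain ⟨f, hf, hf1⟩ : ∃ f ∈ F, f ≠ 1 := by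
    by_contra hcon
    push Not at hcon
    have : F = ⊥ := (Subgroup.eq_bot_iff_forall F).2 hcon
    rw [hldef, this, Subgroup.card_bot] at hl
    exact Nat.not_prime_one hl
  obtain ⟨hfD, hfw⟩ := (hmemF f).1 hf
  obtain ⟨hfS, hfc, hfb⟩ := mem_pair.1 hfD
  have hford : orderOf f = l := ((Nat.dvd_prime hl).1 (Subgroup.orderOf_dvd_natCard F hf)).resolve_left
    fun e => hf1 (orderOf_eq_one_iff.1 e)
  have hFz : F = zpowers f := (Subgroup.eq_of_le_of_card_ge (zpowers_le.2 hf)
    (le_of_eq (by rw [Nat.card_zpowers, hford]))).symm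
  -- an element of `A` commuting with a non-trivial element of `F` is trivial
  let J := {t : G // t ∈ S ∧ orderOf t = 2 ∧ t • c = c}
  have hact : ∀ p : zpowers f, ∀ i : J, (p : G) * i * (p : G)⁻¹ ∈ S ∧
      orderOf ((p : G) * i * (p : G)⁻¹) = 2 ∧ ((p : G) * i * (p : G)⁻¹) • c = c := by
    rintro ⟨p, hp⟩ ⟨i, hi, hi2, hic⟩
    refine ⟨conj_mem_of_mem (zpowers_le.2 hfS hp) hi, by rw [orderOf_conj, hi2], ?_⟩
    have hpc : p • c = c := mem_stabilizer_iff.1 ((zpowers_le.2 (mem_stabilizer_iff.2 hfc)) hp)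
    have h' := conj_smul_of_smul (g := p) hic
    rwa [hpc] at h'
  letI : MulAction (zpowers f) J :=
    { smul := fun p i => ⟨(p : G) * i * (p : G)⁻¹, hact p i⟩
      one_smul := fun i => Subtype.ext
        (show ((1 : zpowers f) : G) * i * ((1 : zpowers f) : G)⁻¹ = i by simp)
      mul_smul := fun p p' i => Subtype.ext
        (show ((p * p' : zpowers f) : G) * i * ((p * p' : zpowers f) : G)⁻¹ =
          p * (p' * i * (p' : G)⁻¹) * (p : G)⁻¹ by simp [mul_assoc]) }
  have hlm : ¬ l ∣ m := fun hd => hl.ne_one (Nat.eq_one_of_dvd_coprimes h.coprime dvd_rfl hd)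
  obtain ⟨⟨t, htS, ht2, htc⟩, hfix⟩ :=
    ((IsPGroup.of_card (n := 1) (by rw [pow_one, Nat.card_zpowers, hford])) :
      IsPGroup l (zpowers f)).nonempty_fixed_point_of_prime_not_dvd_card J (by
        show ¬ l ∣ Nat.card J
        rw [← hm]; exact hlm)
  have hft : Commute f t :=
    mul_inv_eq_iff_eq_mul.1 (congrArg Subtype.val (hfix ⟨f, mem_zpowers f⟩))
  have honly : ∀ i ∈ S, orderOf i = 2 → i • c = c → Commute f i → i = t :=
    fun i hi hi2 hic hfi => huniq f hfD hfw hf1 i hi hi2 hic hfi t htS ht2 htc hft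
  have hAfix : ∀ x ∈ A, Commute x f → x = 1 := by
    intro x hx hxf
    obtain ⟨hxS, hxc, -⟩ := mem_pair.1 (hAD hx)
    have hxtc : (x * t * x⁻¹) • c = c := by
      have h' := conj_smul_of_smul (g := x) htc
      rwa [hxc] at h'
    have e := honly _ (conj_mem_of_mem hxS htS) (by rw [orderOf_conj, ht2]) hxtc
      ((hxf.symm.mul_right hft).mul_right hxf.symm.inv_right)
    exact hfpf x hx t htS ht2 htc (mul_inv_eq_iff_eq_mul.1 e)
  have hFfix : ∀ y ∈ F, ∀ x ∈ A, x ≠ 1 → Commute y x → y = 1 := by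
    intro y hy x hx hx1 hyx
    by_contra hy1
    have hyz : zpowers y = F := Subgroup.eq_of_le_of_card_ge (zpowers_le.2 hy) (le_of_eq (by
      rw [Nat.card_zpowers, ((Nat.dvd_prime hl).1 (Subgroup.orderOf_dvd_natCard F hy)).resolve_left
        fun e => hy1 (orderOf_eq_one_iff.1 e)]))
    obtain ⟨k, hk⟩ := mem_zpowers_iff.1 (hyz.symm ▸ hf : f ∈ zpowers y)
    exact hx1 (hAfix x hx (hk ▸ hyx.symm.zpow_right k))
  -- the pair stabiliser
  have hcardD : Nat.card (pair S c b) = m * l := by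
    rw [← hAcard, ← Nat.card_prod]
    refine (Nat.card_eq_of_bijective (fun y : A × F => (⟨(y.1 : G) * y.2,
      mul_mem (hAD y.1.2) ((hmemF _).1 y.2.2).1⟩ : pair S c b)) ⟨?_, ?_⟩).symm
    · rintro ⟨x, y⟩ ⟨x', y'⟩ e
      have e' : (x : G) * y = x' * y' := congrArg Subtype.val e
      have e2 : (x' : G)⁻¹ * x = y' * (y : G)⁻¹ := by
        rw [eq_mul_inv_iff_mul_eq, mul_assoc, e', inv_mul_cancel_left]
      have h1 := hAF _ (mul_mem (inv_mem x'.2) x.2) (e2 ▸ mul_mem y'.2 (inv_mem y.2))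
      have : x = x' := Subtype.ext (inv_mul_eq_one.1 h1).symm
      subst this
      exact Prod.ext rfl (Subtype.ext (mul_left_cancel e'))
    · rintro ⟨d, hd⟩
      obtain ⟨j, hj, g, hg, hgw, rfl⟩ := hdec d hd
      exact ⟨(⟨j, hj⟩, ⟨g, (hmemF g).2 ⟨hg, hgw⟩⟩), rfl⟩
  -- elements of `A` fix two points
  have hfixA : ∀ x ∈ A, x ≠ 1 → ∀ z ∈ C, x • z = z → z = c ∨ z = b := by
    intro x hx hx1 z hz hxz
    by_contra hcon
    push Not at hcon
    obtain ⟨q, hq, hqx⟩ : ∃ q, q.Prime ∧ q ∣ orderOf x :=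
      Nat.exists_prime_and_dvd fun e => hx1 (orderOf_eq_one_iff.1 e)
    haveI := Fact.mk hq
    set y := x ^ (orderOf x / q) with hy
    have hyA : y ∈ A := A.pow_mem hx _
    have hyord : orderOf y = q := orderOf_pow_orderOf_div (orderOf_pos x).ne' hqx
    have hfixy : ∀ {e : Ω}, x • e = e → ∀ p ∈ zpowers y, p • e = e := fun {e} he p hp =>
      mem_stabilizer_iff.1 ((zpowers_le.2
        (show y ∈ stabilizer G e from (stabilizer G e).pow_mem (mem_stabilizer_iff.2 he) _)) hp)
    have hdvd : q ∣ m := by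
      rw [← hAcard]
      exact hqx.trans (Subgroup.orderOf_dvd_natCard A hx)
    obtain ⟨-, hxc, hxb⟩ := mem_pair.1 (hAD hx)
    obtain ⟨i, hi, hi2, hic, hiy⟩ := exists_inv_fixed h.se h.faithful hG h.mem_left hdvd (zpowers y)
      (zpowers_le.2 (hAS hyA)) (IsPGroup.of_card (n := 1) (by rw [pow_one, Nat.card_zpowers, hyord]))
      ⟨c, ⟨h.mem_left, hfixy hxc⟩, b, ⟨h.mem_right, hfixy hxb⟩, z, ⟨hz, hfixy hxz⟩, h.ne,
        fun e => hcon.1 e, fun e => hcon.2 e⟩ c ⟨h.mem_left, hfixy hxc⟩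
    have := hfpf y hyA i hi hi2 hic (hiy y (mem_zpowers y)).symm
    rw [this, orderOf_one] at hyord
    exact hq.one_lt.ne hyord
  -- the centraliser of a non-trivial element of `A`
  have hcentA : ∀ x ∈ A, x ≠ 1 → ∀ g ∈ S, Commute g x → g ∈ A := by
    intro x hx hx1 g hg hgx
    obtain ⟨-, hxc, hxb⟩ := mem_pair.1 (hAD hx)
    have key : ∀ z ∈ C, x • z = z → g • z = c ∨ g • z = b := fun z hz hxz =>
      hfixA x hx hx1 _ (h.se.smul_mem hg hz) (by rw [← mul_smul, ← hgx.eq, mul_smul, hxz])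
    have hne : g • c ≠ g • b := fun e => h.ne (MulAction.injective g e)
    rcases key c h.mem_left hxc with hgc | hgc <;> rcases key b h.mem_right hxb with hgb | hgb
    · exact absurd (hgc.trans hgb.symm) hne
    · obtain ⟨j, hj, y, hy, hyw, rfl⟩ := hdec g (mem_pair.2 ⟨hg, hgc, hgb⟩)
      have hyx : Commute y x := by
        have h1 : Commute j⁻¹ x := (show Commute j x from hAc j hj x hx).inv_left
        simpa using h1.mul_left hgx
      rw [hFfix y ((hmemF y).2 ⟨hy, hyw⟩) x hx hx1 hyx, mul_one]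
      exact hj
    · exfalso
      have hwb : w • b = c := swap_symm h.swap_inv h.swap
      obtain ⟨j, hj, y, hy, hyw, e⟩ := hdec (w * g) (mem_pair.2 ⟨mul_mem h.swap_mem hg,
        by rw [mul_smul, hgc, hwb], by rw [mul_smul, hgb, h.swap]⟩)
      have h1 : w * g * x * (w * g)⁻¹ = x⁻¹ := by
        rw [← ((hmemA x).1 hx).2]
        calc w * g * x * (w * g)⁻¹ = w * (g * x * g⁻¹) * w⁻¹ := by group
          _ = w * x * w⁻¹ := by rw [hgx.eq, mul_inv_cancel_right]
      have hyx' : y * x * y⁻¹ ∈ A := by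
        have := (Subgroup.mem_normalizer_iff.1 (hAn hy) x).1 hx
        exact this
      rw [e, show j * y * x * (j * y)⁻¹ = j * (y * x * y⁻¹) * j⁻¹ by group,
        hAc j hj _ hyx', mul_inv_cancel_right] at h1
      have h2 : Commute (y * y) x := by
        refine mul_inv_eq_iff_eq_mul.1 ?_
        calc y * y * x * (y * y)⁻¹ = y * (y * x * y⁻¹) * y⁻¹ := by group
          _ = x := by rw [h1, show y * x⁻¹ * y⁻¹ = (y * x * y⁻¹)⁻¹ by group, h1, inv_inv]
      have hyF : y ∈ F := (hmemF y).2 ⟨hy, hyw⟩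
      have h3 := hFfix _ (F.mul_mem hyF hyF) x hx hx1 h2
      rw [hsq1 y hy (mul_eq_one_iff_eq_inv.1 h3), one_mul, inv_one, mul_one] at h1
      exact hx1 (hsq1 x (hAD hx) h1)
    · exact absurd (hgc.trans hgb.symm) hne
  -- the order of `F`
  have hm2 : m = 2 ^ l - 1 := by
    set E : Subgroup G := invGen S c with hE
    have hmemE : ∀ e, e ∈ E ↔ e = 1 ∨ e ∈ S ∧ orderOf e = 2 ∧ e • c = c := fun e =>
      ⟨eq_or_inv_of_mem_invGen h.comm, fun he => he.elim (fun e1 => e1 ▸ one_mem E)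
        fun he => Subgroup.subset_closure he⟩
    let ψ : pair S c b →* MulAut E :=
      (Subgroup.normalizerMonoidHom E).comp
        (Subgroup.inclusion (pair_le_normalizer_invGen c b))
    have hψ : ∀ (d : pair S c b) (e : E), ((ψ d e : E) : G) = d * e * (d : G)⁻¹ := fun d e => rfl
    let A' : Subgroup (MulAut E) := (ψ.comp (Subgroup.inclusion hAD)).range
    let t' : E := ⟨t, (hmemE t).2 (Or.inr ⟨htS, ht2, htc⟩)⟩
    have ht1 : t ≠ 1 := fun e => by rw [e, orderOf_one] at ht2; omega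
    have hne1 : ∀ v : E, v ≠ 1 → (v : G) ∈ S ∧ orderOf (v : G) = 2 ∧ (v : G) • c = c := fun v hv =>
      ((hmemE v).1 v.2).resolve_left fun e => hv (Subtype.ext e)
    have htr : ∀ v : E, v ≠ 1 → ∃ α ∈ A', α t' = v := by
      intro v hv
      obtain ⟨h1, h2, h3⟩ := hne1 v hv
      obtain ⟨x, hx, hxv⟩ := hreg t htS ht2 htc v h1 h2 h3
      exact ⟨_, ⟨⟨x, hx⟩, rfl⟩, Subtype.ext hxv⟩
    have hcard : Nat.card E = 2 ^ l := by
      refine H70.SE.card_eq_two_pow (fun v => Subtype.ext ?_) A' ?_ t'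
        (fun e => ht1 (congrArg Subtype.val e)) htr hl (ψ ⟨f, hfD⟩) ?_ ?_ ?_ ?_
      · rcases (hmemE v).1 v.2 with e | ⟨-, e, -⟩
        · simp [e]
        · exact mul_self_of_orderOf_eq_two e
      · rintro _ ⟨x, rfl⟩ _ ⟨y, rfl⟩
        rw [← map_mul, ← map_mul]
        exact congrArg _ (Subtype.ext (hAc x x.2 y y.2))
      · rintro _ ⟨x, rfl⟩
        refine ⟨⟨f * x * f⁻¹, (Subgroup.mem_normalizer_iff.1 (hAn hfD) x).1 x.2⟩, ?_⟩
        simp only [MonoidHom.comp_apply]
        rw [← map_inv, ← map_mul, ← map_mul]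
        rfl
      · refine ((Nat.dvd_prime hl).1 ((orderOf_map_dvd ψ _).trans
          (dvd_of_eq ((Subgroup.orderOf_mk f hfD).trans hford)))).resolve_left fun e => ?_
        rw [orderOf_eq_one_iff] at e
        -- `f` would centralise all involutions at `c`
        have hall : ∀ i ∈ S, orderOf i = 2 → i • c = c → Commute f i := by
          intro i hi hi2 hic
          have hiE : i ∈ E := (hmemE i).2 (Or.inr ⟨hi, hi2, hic⟩)
          have h1 := congrArg Subtype.val (DFunLike.congr_fun e (⟨i, hiE⟩ : E))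
          rw [hψ] at h1
          exact mul_inv_eq_iff_eq_mul.1 h1
        have hbot : f ∈ pair S c b ⊓ centralizer (invGen S c : Set G) := by
          refine ⟨hfD, mem_centralizer_iff.2 fun i hi => ?_⟩
          rcases (hmemE i).1 hi with e1 | ⟨h1, h2, h3⟩
          · simp [e1]
          · exact (hall i h1 h2 h3).eq.symm
        rw [h.pair_cent, Subgroup.mem_bot] at hbot
        exact hf1 hbot
      · exact Subtype.ext (mul_inv_eq_iff_eq_mul.2 hft.eq)
      · intro v hv
        by_cases hv1 : v = 1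
        · exact Or.inl hv1
        obtain ⟨h1, h2, h3⟩ := hne1 v hv1
        exact Or.inr (Subtype.ext (honly v h1 h2 h3
          (mul_inv_eq_iff_eq_mul.1 (congrArg Subtype.val hv))))
    have hins : (E : Set G) = insert 1 {e | e ∈ S ∧ orderOf e = 2 ∧ e • c = c} := Set.ext hmemE
    have h3 : Nat.card E = (E : Set G).ncard := Nat.card_coe_set_eq (E : Set G)
    rw [hins, Set.ncard_insert_of_notMem (by simp), ← Nat.card_coe_set_eq, hcard] at h3
    have h4 : Nat.card {e : G | e ∈ S ∧ orderOf e = 2 ∧ e • c = c} = m := hm.symm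
    omega
  have hwb : w • b = c := swap_symm h.swap_inv h.swap
  refine ⟨⟨t, htS⟩, ⟨f, hfS⟩, ⟨w, h.swap_mem⟩, A.subgroupOf S, ?_⟩
  exact
    { prime := hl
      odd := fun e => by
        have h1 := Subgroup.orderOf_dvd_natCard _ hfD
        rw [hford, e, ← even_iff_two_dvd] at h1
        exact (Nat.not_even_iff_odd.mpr hodd) h1
      ne := fun e => h.ne (congrArg Subtype.val e)
      twoTrans := by
        intro x y x' y' hxy hxy'
        obtain ⟨g, hg, hgx⟩ := h.se.trans x.2 x'.2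
        obtain ⟨g', hg', hgx', hgy'⟩ := hT x' x'.2 _ (h.se.smul_mem hg y.2) y' y'.2
          (fun e => hxy (Subtype.ext (MulAction.injective g (hgx.trans e.symm))))
          (fun e => hxy' (Subtype.ext e.symm))
        refine ⟨⟨g' * g, mul_mem hg' hg⟩, Subtype.ext ?_, Subtype.ext ?_⟩
        · show (g' * g) • (x : Ω) = x'
          rw [mul_smul, hgx, hgx']
        · show (g' * g) • (y : Ω) = y'
          rw [mul_smul, hgy']
      one := by
        intro i hi
        rw [← Subgroup.orderOf_coe] at hi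
        obtain ⟨z, hz, hiz⟩ := h.se.exists_fix i.2 hi
        exact ⟨⟨z, hz⟩, Subtype.ext hiz, fun e he => Subtype.ext
          (h.se.fix_unique i.2 hi e.2 hz (congrArg Subtype.val he) hiz)⟩
      com := fun i j hi hj hia hja => Subtype.ext (h.comm i i.2 j j.2
        (by rwa [Subgroup.orderOf_coe]) (by rwa [Subgroup.orderOf_coe])
        (congrArg Subtype.val hia) (congrArg Subtype.val hja))
      card_inv := by
        rw [← hm2, hm]
        exact Nat.card_congr
          ⟨fun i => ⟨i.1.1, i.1.2, by rw [Subgroup.orderOf_coe]; exact i.2.1,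
              congrArg Subtype.val i.2.2⟩,
            fun i => ⟨⟨i.1, i.2.1⟩, by rw [← Subgroup.orderOf_coe]; exact i.2.2.1,
              Subtype.ext i.2.2.2⟩,
            fun _ => rfl, fun _ => rfl⟩
      cardA := by
        rw [Nat.card_congr (Subgroup.subgroupOfEquivOfLe hAS).toEquiv, hAcard, hm2]
      cyclicA :=
        haveI := hAcyc
        isCyclic_of_surjective (Subgroup.subgroupOfEquivOfLe hAS).symm.toMonoidHom
          (MulEquiv.surjective _)
      fixA := fun α hα => ⟨Subtype.ext (mem_pair.1 (hAD hα)).2.1,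
        Subtype.ext (mem_pair.1 (hAD hα)).2.2⟩
      fixedA := fun α hα hne z hz =>
        (hfixA α hα (fun e => hne (Subtype.ext e)) z z.2 (congrArg Subtype.val hz)).imp
          (fun e => Subtype.ext e) fun e => Subtype.ext e
      centA := fun α hα hne x hx =>
        hcentA α hα (fun e => hne (Subtype.ext e)) x x.2 (congrArg Subtype.val hx)
      normA := fun x hxa hxb α hα => (Subgroup.mem_normalizer_iff.1
        (hAn (mem_pair.2 ⟨x.2, congrArg Subtype.val hxa, congrArg Subtype.val hxb⟩)) α).1 hα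
      cardD := by
        rw [← hm2, ← hcardD]
        exact Nat.card_congr
          ⟨fun x => ⟨x.1.1, mem_pair.2 ⟨x.1.2, congrArg Subtype.val x.2.1,
              congrArg Subtype.val x.2.2⟩⟩,
            fun x => ⟨⟨x.1, (mem_pair.1 x.2).1⟩, Subtype.ext (mem_pair.1 x.2).2.1,
              Subtype.ext (mem_pair.1 x.2).2.2⟩,
            fun _ => rfl, fun _ => rfl⟩
      t_inv := by rw [← Subgroup.orderOf_coe]; exact ht2
      t_fix := Subtype.ext htc
      f_fix := ⟨Subtype.ext hfc, Subtype.ext hfb⟩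
      f_ne := fun e => hf1 (congrArg Subtype.val e)
      f_t := Subtype.ext hft.eq
      f_only := fun i hi hia hif => Subtype.ext (honly i i.2 (by rwa [Subgroup.orderOf_coe])
        (congrArg Subtype.val hia) (congrArg Subtype.val hif).symm)
      u_swap := ⟨Subtype.ext h.swap, Subtype.ext hwb⟩
      u_inv := fun α hα => Subtype.ext ((hmemA α).1 hα).2
      u_f := Subtype.ext hfw.symm.eq }

/-- Step 4, without the inductive hypothesis (this form also serves the bridge, where `Hyp` is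
built from `Bridge.Setting`). -/
theorem twoCentral_of_fieldPrime [Finite G] [Finite Ω] {c b : Ω} {w : G} (h : Hyp S C c b w)
    (hl : (Nat.card (pair S c b ⊓ centralizer ({w} : Set G) : Subgroup G)).Prime)
    (huniq : ∀ d ∈ pair S c b, Commute d w → d ≠ 1 →
      ∀ s ∈ S, orderOf s = 2 → s • c = c → Commute d s →
        ∀ t ∈ S, orderOf t = 2 → t • c = c → Commute d t → s = t) : TwoCentral S c := by
  intro v hv ⟨k, hk⟩ t ht ht2 htc
  letI := actionOn h.se
  obtain ⟨t₀, f, u, A, hline⟩ := exists_fieldLine h hl huniq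
  obtain ⟨hvS, hvc⟩ := mem_ptStab.1 hv
  have hpow : (⟨v, hvS⟩ : S) ^ 2 ^ k = 1 := by
    rw [← hk, ← Subgroup.orderOf_mk v hvS, pow_orderOf_eq_one]
  exact congrArg Subtype.val (hline.commute_of_twoPow (x := (⟨v, hvS⟩ : S)) (i := ⟨t, ht⟩)
    (Subtype.ext hvc) hpow (by rw [← Subgroup.orderOf_coe]; exact ht2) (Subtype.ext htc))

/-- Step 4 of LAMBDA. -/
theorem fieldPrime : Targets.FieldPrime.{u} := fun _ _ _ _ _ _ _ _ _ _ _ _ h hl huniq =>
  twoCentral_of_fieldPrime h hl huniq

end Cfsg.Agent.H62.Bender.Lambda
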