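import Cfsg.Agent.H62.Bender.Lambda.Field
import Cfsg.Agent.Cores.SE.CoreNilpotent
import Cfsg.Agent.Cores.Fitting
import Cfsg.Agent.Cores.PCore
import Cfsg.Agent.S0009
import Cfsg.Agent.S0044
import Cfsg.Agent.S0205
import Cfsg.Agent.S1161

/-!
LAMBDA, last step: once the `2`-elements at the point centralise the involutions there, the
stabiliser of the point is the product of the nilpotent semiregular centraliser of these involutions
and the pair stabiliser.
-/

set_option autoImplicit false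
set_option linter.style.haveILetI false

namespace Cfsg.Agent.H62.Bender.Lambda

open Subgroup MulAction
open Cfsg.Agent.H39
open Cfsg.Agent.H73.Bender
open Cfsg.Agent.H53.SE
open Cfsg.Agent.Cores.SE

universe u

variable {G : Type u} [Group G] [Finite G] {Ω : Type u} [MulAction G Ω] [Finite Ω]
  {S : Subgroup G} {C : Set Ω} {c b : Ω} {w : G}

/-- An element of prime order dividing the number of involutions at `c`, fixing `c` and `b` and
centralising no involution at `c`, fixes only `c` and `b`. -/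
theorem fixed_eq_pair (hS : SE S C) (hF : Faithful S C) (hG : Good S C) (hc : c ∈ C) (hb : b ∈ C)
    (hcb : c ≠ b) {r : ℕ} [Fact r.Prime] (hdvd : r ∣ invBar S C c) {x : G}
    (hx : x ∈ pair S c b) (hxr : orderOf x = r)
    (hfree : ∀ t ∈ S, orderOf t = 2 → t • c = c → ¬ Commute x t) {y : Ω} (hy : y ∈ C)
    (hxy : x • y = y) : y = c ∨ y = b := by
  by_contra! hne
  obtain ⟨hxS, hxc, hxb⟩ := mem_pair.mp hx
  have hfix : ∀ {e : Ω}, e ∈ C → x • e = e → e ∈ fixedIn C (zpowers x) := fun {e} he hbe =>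
    ⟨he, fun k hk => mem_stabilizer_iff.mp ((zpowers_le.mpr (mem_stabilizer_iff.mpr hbe) :
      zpowers x ≤ stabilizer G e) hk)⟩
  obtain ⟨i, hi, hi2, hic, hix⟩ := H53.SE.exists_inv_fixed hS hF hG hc hdvd (zpowers x)
    (zpowers_le.mpr hxS) (IsPGroup.of_card (n := 1) (by rw [Nat.card_zpowers, hxr, pow_one]))
    ⟨c, hfix hc hxc, b, hfix hb hxb, y, hfix hy hxy, hcb, hne.1, hne.2⟩ c (hfix hc hxc)
  exact hfree i hi hi2 hic (hix x (mem_zpowers x)).symm

omit [Finite G] [Finite Ω] [MulAction G Ω] in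
/-- In `A F` with `A` normalised by `F`, a subgroup of order prime to `F` lies in `A`. -/
theorem le_of_coprime_complement {A F P D : Subgroup G} (hF : F ≤ normalizer (A : Set G))
    (hdec : ∀ d ∈ D, ∃ j ∈ A, ∃ f ∈ F, d = j * f) (hP : P ≤ D)
    (hcop : (Nat.card F).Coprime (Nat.card P)) : P ≤ A := by
  intro p hp
  obtain ⟨j, hj, f, hf, rfl⟩ := hdec p (hP hp)
  have key : ∀ n : ℕ, (j * f) ^ n * (f ^ n)⁻¹ ∈ A := by
    intro n
    induction n with
    | zero => simp
    | succ n ih =>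
      have e : (j * f) ^ (n + 1) * (f ^ (n + 1))⁻¹ =
          (j * f) ^ n * (f ^ n)⁻¹ * (f ^ n * j * (f ^ n)⁻¹) := by
        rw [pow_succ, pow_succ]; group
      exact e ▸ mul_mem ih ((Subgroup.mem_normalizer_iff.mp (pow_mem (hF hf) n) j).mp hj)
  have hfN : f ^ Nat.card F = 1 := by
    rw [← Subgroup.coe_mk F f hf, ← Subgroup.coe_pow, pow_card_eq_one', Subgroup.coe_one]
  have hpN := key (Nat.card F)
  rw [hfN, inv_one, mul_one] at hpN
  obtain ⟨e, he⟩ := exists_pow_eq_self_of_coprime (x := j * f)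
    (hcop.coprime_dvd_right (by
      rw [← Subgroup.orderOf_mk (j * f) hp]; exact orderOf_dvd_natCard _))
  exact he ▸ pow_mem hpN e

/-- The stabiliser of `c` is the centraliser of the involutions at `c` times the pair stabiliser. -/
theorem cover_base (h : Hyp S C c b w) (h2 : TwoCentral S c) :
    Group.IsNilpotent (centInv S c) ∧
      ∀ g ∈ ptStab S c, ∃ k ∈ centInv S c, ∃ d ∈ pair S c b, g = k * d := by
  classical
  have hS := h.se
  have hF := h.faithful
  have hG := h.good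
  have hc := h.mem_left
  have hb := h.mem_right
  have hcb := h.ne
  obtain ⟨A, -, hAD, hAn, hAcyc, hAcard, hAfix, hAtrans, hAdec⟩ :=
    exists_inverted_subgroup hS hF hG hc hb hcb h.comm h.swap_mem h.swap_inv h.swap
  set H : Subgroup G := ptStab S c with hH
  set K : Subgroup G := centInv S c with hK
  have hKn : H ≤ normalizer (K : Set G) := ptStab_le_normalizer_centInv c
  have hKH : K ≤ H := inf_le_left
  have hDH : pair S c b ≤ H := fun g hg =>
    mem_ptStab.mpr ⟨(mem_pair.mp hg).1, (mem_pair.mp hg).2.1⟩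
  have hAH : A ≤ H := hAD.trans hDH
  have hKD : ∀ g ∈ K, g ∈ pair S c b → g = 1 := fun g hg hgD => by
    have hg' : g ∈ pair S c b ⊓ centralizer (invGen S c : Set G) := ⟨hgD, hg.2⟩
    rwa [h.pair_cent, mem_bot] at hg'
  -- a Sylow subgroup of the pair stabiliser for a prime dividing the number of involutions at `c`
  have hsyl : ∀ (p : ℕ) [Fact p.Prime], p ∣ invBar S C c →
      ∃ P : Subgroup G, H29.Bender.IsSyl p H P ∧ P ≤ A := by
    intro p _ hp
    obtain ⟨P, -, hP⟩ := H29.Bender.exists_isSyl_ge (D := pair S c b) (P := ⊥) bot_le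
      (IsPGroup.of_bot (p := p))
    refine ⟨P, isSyl_ptStab_of_pair hS hG hc hp hb (Ne.symm hcb) hP,
      le_of_coprime_complement (D := pair S c b)
        (F := pair S c b ⊓ centralizer ({w} : Set G)) (inf_le_left.trans hAn)
        (fun d hd => ?_) hP.le ?_⟩
    · obtain ⟨j, hj, f, hf, hfw, rfl⟩ := hAdec d hd
      exact ⟨j, hj, f, ⟨hf, mem_centralizer_singleton_iff.mpr hfw.eq⟩, rfl⟩
    · obtain ⟨n, hn⟩ := IsPGroup.iff_card.mp hP.pgroup
      rw [hn]
      exact (h.coprime.coprime_dvd_right hp).pow_right n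
  -- an element of `A` of prime order
  have hm1 : invBar S C c ≠ 1 := by
    rw [invBar_eq_card hF]
    obtain ⟨t, ht, ht2, htc⟩ := hS.exists_inv_at hc
    obtain ⟨s, hs, hs2, hts, hcts⟩ := hS.exists_commute_inv h.rankTwo ht ht2
    haveI : Nontrivial {t : G // t ∈ S ∧ orderOf t = 2 ∧ t • c = c} :=
      ⟨⟨t, ht, ht2, htc⟩, ⟨s, hs, hs2, hS.fix_of_commute hs ht ht2 hcts.symm hc htc⟩,
        fun e => hts (congrArg Subtype.val e)⟩
    exact Finite.one_lt_card.ne'
  obtain ⟨r, hr, hrm⟩ := Nat.exists_prime_and_dvd hm1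
  haveI : Fact r.Prime := ⟨hr⟩
  obtain ⟨⟨x, hxA⟩, hxr⟩ := exists_prime_orderOf_dvd_card' (G := A) r (hAcard ▸ hrm)
  rw [Subgroup.orderOf_mk] at hxr
  have hx1 : x ≠ 1 := fun e => hr.ne_one (by rw [← hxr, e, orderOf_one])
  have honly : ∀ y ∈ C, x • y = y → y = c ∨ y = b := fun y hy hxy =>
    fixed_eq_pair hS hF hG hc hb hcb hrm (hAD hxA) hxr
      (fun t ht ht2 htc hxt => hx1 (hAfix x hxA t ht ht2 htc hxt)) hy hxy
  have hxb : x • b = b := (mem_pair.mp (hAD hxA)).2.2
  refine ⟨Cores.SE.isNilpotent_of_fpf hr hxr (hKn (hAH hxA)) fun k hk hxk => ?_, ?_⟩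
  · obtain ⟨hkS, hkc⟩ := mem_ptStab.mp (hKH hk)
    exact hKD k hk (mem_pair.mpr
      ⟨hkS, hkc, fix_of_commute_exact hS hb hcb hxb honly hkS hkc hxk.symm⟩)
  -- the linear group on the involutions at `c`
  set E : Subgroup G := invGen S c with hE
  have hEc : ∀ x y : E, x * y = y * x := by
    rintro ⟨x, hx⟩ ⟨y, hy⟩
    rcases eq_or_inv_of_mem_invGen h.comm hx with rfl | ⟨hx1, hx2, hxa⟩
    · exact Subtype.ext (by simp)
    rcases eq_or_inv_of_mem_invGen h.comm hy with rfl | ⟨hy1, hy2, hya⟩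
    · exact Subtype.ext (by simp)
    exact Subtype.ext (h.comm x hx1 y hy1 hx2 hy2 hxa hya).eq
  letI : CommGroup E := { (inferInstance : Group E) with mul_comm := hEc }
  let ψ : H →* MulAut E :=
    (Subgroup.normalizerMonoidHom E).comp (Subgroup.inclusion (ptStab_le_normalizer_invGen c))
  have hψ : ∀ (g : H) (e : E), ((ψ g e : E) : G) = g * e * (g : G)⁻¹ := fun _ _ => rfl
  have hker : ∀ g : H, ψ g = 1 ↔ (g : G) ∈ K := by
    intro g
    constructor
    · intro hg
      refine ⟨g.2, mem_centralizer_iff.mpr fun e he => ?_⟩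
      have h1 := congrArg (fun f : MulAut E => ((f ⟨e, he⟩ : E) : G)) hg
      rw [hψ] at h1
      exact (mul_inv_eq_iff_eq_mul.mp h1).symm
    · intro hg
      refine MulEquiv.ext fun e => Subtype.ext ?_
      rw [hψ, ← mem_centralizer_iff.mp hg.2 e e.2, mul_inv_cancel_right]
      rfl
  set L : Subgroup (MulAut E) := ψ.range with hL
  let π : H →* L := ψ.rangeRestrict
  have hπ : Function.Surjective π := ψ.rangeRestrict_surjective
  have hπ1 : ∀ g : H, π g = 1 ↔ (g : G) ∈ K := fun g => by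
    rw [← hker, Subtype.ext_iff]
    rfl
  letI : DistribMulAction L (Additive E) :=
    { smul := fun q e => Additive.ofMul ((q : MulAut E) e.toMul)
      one_smul := fun e => show Additive.ofMul (((1 : L) : MulAut E) e.toMul) = e by simp
      mul_smul := fun p q e => show Additive.ofMul (((p * q : L) : MulAut E) e.toMul) =
        Additive.ofMul ((p : MulAut E) ((q : MulAut E) e.toMul)) by rw [Subgroup.coe_mul]; rfl
      smul_zero := fun q => show Additive.ofMul ((q : MulAut E) (1 : E)) = 0 by simp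
      smul_add := fun q e e' => show Additive.ofMul ((q : MulAut E) (e.toMul * e'.toMul)) =
        Additive.ofMul ((q : MulAut E) e.toMul) + Additive.ofMul ((q : MulAut E) e'.toMul) by
          rw [map_mul]; rfl }
  haveI : FaithfulSMul L (Additive E) := ⟨fun {p q} hpq =>
    Subtype.ext (MulEquiv.ext fun e => Additive.ofMul.injective (hpq (Additive.ofMul e)))⟩
  obtain ⟨t₀, ht₀, ht₀2, ht₀c⟩ := hS.exists_inv_at hc
  have ht₀E : t₀ ∈ E := Subgroup.subset_closure ⟨ht₀, ht₀2, ht₀c⟩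
  haveI : Nontrivial (Additive E) := by
    refine ⟨Additive.ofMul ⟨t₀, ht₀E⟩, 0, fun e => ?_⟩
    have h1 : t₀ = 1 := congrArg (fun e : Additive E => ((e.toMul : E) : G)) e
    rw [h1, orderOf_one] at ht₀2
    exact absurd ht₀2 (by norm_num)
  have hq2 : ∀ e : Additive E, 2 • e = 0 := by
    intro e
    refine Additive.toMul.injective (Subtype.ext ?_)
    show (((e.toMul) ^ 2 : E) : G) = 1
    rw [SubgroupClass.coe_pow]
    rcases eq_or_inv_of_mem_invGen h.comm e.toMul.2 with h | h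
    · rw [h, one_pow]
    · rw [sq, mul_self_of_orderOf_eq_two h.2.1]
  have hne : ∀ e : Additive E, e ≠ 0 →
      (e.toMul : G) ∈ S ∧ orderOf (e.toMul : G) = 2 ∧ (e.toMul : G) • c = c := fun e he =>
    (eq_or_inv_of_mem_invGen h.comm e.toMul.2).resolve_left fun h =>
      he (Additive.toMul.injective (Subtype.ext h))
  have htr : ∀ e e' : Additive E, e ≠ 0 → e' ≠ 0 → ∃ q : L, q • e = e' := by
    intro e e' he he'
    obtain ⟨h1, h2, h3⟩ := hne e he
    obtain ⟨h1', h2', h3'⟩ := hne e' he'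
    obtain ⟨j, hj, hje⟩ := hAtrans _ h1 h2 h3 _ h1' h2' h3'
    exact ⟨π ⟨j, hAH hj⟩, Additive.toMul.injective (Subtype.ext hje)⟩
  -- it has odd order
  have hodd : Odd (Nat.card L) := by
    rw [← Nat.not_even_iff_odd, even_iff_two_dvd]
    intro hd
    obtain ⟨y, hy⟩ := exists_prime_orderOf_dvd_card' (G := L) 2 hd
    obtain ⟨g, rfl⟩ := hπ y
    obtain ⟨k, n, hn, hkn⟩ := Nat.exists_eq_pow_mul_and_not_dvd (orderOf_pos g).ne' 2 (by norm_num)
    have hgn : orderOf (g ^ n) = 2 ^ k := by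
      rw [orderOf_pow_of_dvd (fun e => hn (by rw [e]; exact dvd_zero 2)) (hkn ▸ dvd_mul_left n _), hkn,
        Nat.mul_div_cancel _ (Nat.pos_of_ne_zero fun e => hn (by rw [e]; exact dvd_zero 2))]
    have hgK : ((g ^ n : H) : G) ∈ K := by
      refine ⟨(g ^ n).2, mem_centralizer_iff.mpr fun e he => ?_⟩
      rcases eq_or_inv_of_mem_invGen h.comm he with rfl | ⟨he1, he2, hec⟩
      · simp
      · exact (h2 _ (g ^ n).2 ⟨k, by rw [Subgroup.orderOf_coe, hgn]⟩ e he1 he2 hec).eq.symm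
    have hyn : π g ^ n = 1 := by rw [← map_pow]; exact (hπ1 _).mpr hgK
    exact hn (hy ▸ orderOf_dvd_of_pow_eq_one hyn)
  obtain ⟨-, hFfpf, -⟩ := Cfsg.Agent.S1161.result hodd Nat.prime_two hq2 htr
  haveI : Group.IsSolvable L := Cfsg.Agent.S0205.result hodd
  -- the image of `A` is the Fitting subgroup
  set AL : Subgroup L := (A.subgroupOf H).map π with hAL
  have hcore : ∀ (p : ℕ) [Fact p.Prime], Cfsg.pCore p L ≤ AL := by
    intro p hp
    by_cases hbot : Cfsg.pCore p L = ⊥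
    · rw [hbot]; exact bot_le
    have hpc : p ∣ Nat.card (Cfsg.pCore p L) := by
      obtain ⟨n, hn⟩ := IsPGroup.iff_card.mp (Cores.pCore_isPGroup (p := p) (G := L))
      rw [hn]
      exact dvd_pow_self p fun e => hbot (Subgroup.eq_bot_of_card_eq _ (by rw [hn, e, pow_zero]))
    obtain ⟨⟨y, hy⟩, hyp⟩ := exists_prime_orderOf_dvd_card' p hpc
    rw [Subgroup.orderOf_mk] at hyp
    have hy1 : y ≠ 1 := fun e => hp.out.ne_one (by rw [← hyp, e, orderOf_one])
    have hfix := hFfpf y (Cores.pCore_le_fittingSubgroup hp.out hy) hy1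
    have hmem : fixedPoints (zpowers y) (Additive E) = {0} :=
      Set.ext fun e => ⟨fun he => hfix e (he ⟨y, mem_zpowers y⟩), fun he q => by
        rw [Set.mem_singleton_iff.mp he, smul_zero]⟩
    have hpm : p ∣ invBar S C c := by
      have hmod := (IsPGroup.of_card (p := p) (n := 1) (G := zpowers y)
        (by rw [Nat.card_zpowers, hyp, pow_one])).card_modEq_card_fixedPoints (Additive E)
      rw [hmem, Nat.card_congr (Additive.toMul (α := E)), hE, h.card_invGen,
        Nat.card_eq_one_iff_unique.mpr ⟨inferInstance, inferInstance⟩] at hmod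
      simpa using (Nat.modEq_iff_dvd' le_add_self).mp hmod.symm
    obtain ⟨P, hP, hPA⟩ := hsyl p hpm
    obtain ⟨R, hR⟩ := hP.exists_sylow
    refine ((Cores.pCore_isPGroup (p := p) (G := L)).le_sylow_of_normal
      (R.mapSurjective hπ)).trans ?_
    rw [Sylow.coe_mapSurjective]
    exact Subgroup.map_mono fun g hg => mem_subgroupOf.mpr (hPA (hR ▸ ⟨g, hg, rfl⟩))
  have hFA : Cfsg.fittingSubgroup L ≤ AL := by
    rw [Cfsg.Agent.S0009.result]
    exact iSup_le fun p => haveI := Fact.mk p.2; hcore p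
  haveI := hAcyc
  letI : CommGroup A := IsCyclic.commGroup
  have hALc : AL ≤ centralizer (Cfsg.fittingSubgroup L : Set L) := by
    intro a ha
    refine mem_centralizer_iff.mpr fun f hf => ?_
    obtain ⟨a', ha', rfl⟩ := ha
    obtain ⟨f', hf', rfl⟩ := hFA hf
    rw [← map_mul, ← map_mul]
    exact congrArg π (Subtype.ext
      (congrArg Subtype.val (mul_comm (⟨f', hf'⟩ : A) ⟨a', ha'⟩) :))
  have hALn : AL.Normal := by
    rw [le_antisymm (hALc.trans Cfsg.Agent.S0044.result) hFA]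
    exact Subgroup.sSup_normal _ fun _ h => h.1
  -- the subgroup generated by the centraliser and `x` is normal
  have hxu : ∀ a ∈ A, a ^ r = 1 → a ∈ zpowers x := by
    intro a ha har
    by_contra hax
    haveI := Fintype.ofFinite A
    have hsub : (insert (⟨a, ha⟩ : A) (zpowers (⟨x, hxA⟩ : A) : Set A)) ⊆
        {z : A | z ^ r = 1} := by
      rintro z (rfl | hz)
      · exact Subtype.ext har
      · obtain ⟨i, rfl⟩ := mem_zpowers_iff.mp hz
        show ((⟨x, hxA⟩ : A) ^ i) ^ r = 1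
        rw [← zpow_natCast, ← zpow_mul, mul_comm, zpow_mul, zpow_natCast,
          show (⟨x, hxA⟩ : A) ^ r = 1 from Subtype.ext (hxr ▸ pow_orderOf_eq_one x), one_zpow]
    have hle := (Set.ncard_le_ncard hsub (Set.toFinite _)).trans_eq
      (Set.ncard_eq_toFinset_card' _)
    rw [Set.ncard_insert_of_notMem (fun hz => hax (by
      obtain ⟨i, hi⟩ := mem_zpowers_iff.mp hz
      exact mem_zpowers_iff.mpr ⟨i, congrArg Subtype.val hi⟩)) (Set.toFinite _),
      show ((zpowers (⟨x, hxA⟩ : A) : Set A)).ncard = Nat.card (zpowers (⟨x, hxA⟩ : A)) from rfl,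
      Nat.card_zpowers, Subgroup.orderOf_mk, hxr] at hle
    have hle' := hle.trans (le_of_eq (by rw [Set.toFinset_ofPred]))
    exact absurd (hle'.trans (IsCyclic.card_pow_eq_one_le hr.pos)) (by omega)
  set M : Subgroup G := K ⊔ zpowers x with hM
  have hxM : zpowers x ≤ M := le_sup_right
  have hnx : zpowers x ≤ normalizer (K : Set G) := zpowers_le.mpr (hKn (hAH hxA))
  have hMdec : ∀ g ∈ M, ∃ k ∈ K, ∃ i : ℤ, g = k * x ^ i := by
    intro g hg
    have hg' : g ∈ ((M : Subgroup G) : Set G) := hg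
    rw [hM, Subgroup.coe_mul_of_right_le_normalizer_left _ _ hnx] at hg'
    obtain ⟨k, hk, q, hq, rfl⟩ := Set.mem_mul.mp hg'
    obtain ⟨i, rfl⟩ := mem_zpowers_iff.mp hq
    exact ⟨k, hk, i, rfl⟩
  have hMn : H ≤ normalizer (M : Set G) := by
    intro g hg
    refine Coprime.mem_normalizer_of_map_conj (Subgroup.eq_of_le_of_card_ge ?_
      (le_of_eq (card_map_of_injective (MulAut.conj g).injective).symm))
    rw [hM, Subgroup.map_sup]
    refine sup_le ((H29.Bender.map_conj_le le_rfl (hKn hg)).trans le_sup_left) ?_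
    rw [MonoidHom.map_zpowers, zpowers_le]
    show g * x * g⁻¹ ∈ K ⊔ zpowers x
    have hA1 : π ⟨x, hAH hxA⟩ ∈ AL := ⟨⟨x, hAH hxA⟩, hxA, rfl⟩
    obtain ⟨a, ha, hae⟩ := hALn.conj_mem _ hA1 (π ⟨g, hg⟩)
    have ha' : (a : G) ∈ A := ha
    have hmem : ((⟨g, hg⟩ * ⟨x, hAH hxA⟩ * ⟨g, hg⟩⁻¹ * a⁻¹ : H) : G) ∈ K := by
      rw [← hπ1, map_mul, map_mul, map_mul, map_inv, map_inv, hae, mul_inv_cancel]
    have har : (a : G) ^ r = 1 := by
      refine hKD _ ?_ (hAD (pow_mem ha' r))
      rw [← Subgroup.coe_pow, ← hπ1, map_pow, hae, conj_pow, ← map_pow,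
        show (⟨x, hAH hxA⟩ : H) ^ r = 1 from Subtype.ext (hxr ▸ pow_orderOf_eq_one x), map_one,
        mul_one, mul_inv_cancel]
    have := mul_mem (mem_sup_left hmem : _ ∈ K ⊔ zpowers x)
      (mem_sup_right (hxu _ ha' har))
    simpa using this
  -- Frattini
  have hXsyl : H29.Bender.IsSyl r M (zpowers x) := by
    obtain ⟨T, hxT, hT⟩ := H29.Bender.exists_isSyl_ge hxM
      (IsPGroup.of_card (p := r) (n := 1) (by rw [Nat.card_zpowers, hxr, pow_one]))
    suffices hTx : T = zpowers x by exact hTx ▸ hT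
    refine le_antisymm (fun g hg => ?_) hxT
    obtain ⟨k, hk, i, rfl⟩ := hMdec g (hT.le hg)
    have hkT : k ∈ T := by
      have := mul_mem hg (inv_mem (hxT (zpow_mem (mem_zpowers x) i)))
      rwa [mul_inv_cancel_right] at this
    obtain ⟨P, hP, hPA⟩ := hsyl r hrm
    obtain ⟨P', hkP', hP'⟩ := H29.Bender.exists_isSyl_ge (D := H) (P := zpowers k)
      (zpowers_le.mpr (hKH hk)) (hT.pgroup.to_le (zpowers_le.mpr hkT))
    obtain ⟨d, hd, hdP⟩ := hP'.exists_conj hP
    have h1 : d * k * d⁻¹ ∈ K := (Subgroup.mem_normalizer_iff.mp (hKn hd) k).mp hk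
    have h2 : d * k * d⁻¹ ∈ P := hdP ▸ ⟨k, hkP' (mem_zpowers k), rfl⟩
    rw [conj_eq_one_iff.mp (hKD _ h1 (hAD (hPA h2))), one_mul]
    exact zpow_mem (mem_zpowers x) i
  intro g hg
  obtain ⟨d, hd, hdg⟩ := hXsyl.exists_mul_mem_normalizer (hMn hg)
  obtain ⟨k, hk, i, hki⟩ := hMdec _ (inv_mem hd)
  have hMH : M ≤ H := sup_le hKH (zpowers_le.mpr (hAH hxA))
  refine ⟨k, hk, x ^ i * (d * g), mul_mem (zpow_mem (hAD hxA) i) ?_, ?_⟩
  · have hn : d * g ∈ H := mul_mem (hMH hd) hg
    obtain ⟨hnS, hnc⟩ := mem_ptStab.mp hn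
    refine mem_pair.mpr ⟨hnS, hnc, ?_⟩
    have hconj := (Subgroup.mem_normalizer_iff''.mp hdg x).mp (mem_zpowers x)
    have hfix : ((d * g)⁻¹ * x * (d * g)) • b = b :=
      mem_stabilizer_iff.mp ((zpowers_le.mpr (mem_stabilizer_iff.mpr hxb) :
        zpowers x ≤ stabilizer G b) hconj)
    rw [mul_smul, mul_smul, inv_smul_eq_iff] at hfix
    exact (honly _ (hS.smul_mem hnS hb) hfix).resolve_left fun e =>
      hcb (MulAction.injective (d * g) (e.trans hnc.symm)).symm
  · rw [← mul_assoc, ← hki, inv_mul_cancel_left]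

/-- LAMBDA from the centrality of the `2`-elements. -/
theorem out_of_twoCentral (_hall : CoreAll.{u} (Nat.card S)) (h : Hyp S C c b w)
    (h2 : TwoCentral S c) : Out S C c := by
  have hcb := cover_base h h2
  have hKn : ptStab S c ≤ normalizer (centInv S c : Set G) := ptStab_le_normalizer_centInv c
  -- move a second point to `b`
  have hmove : ∀ z ∈ C, z ≠ c → ∃ g ∈ ptStab S c, g • z = b := fun z hz hzc => by
    obtain ⟨g, hg, hgc, hgz⟩ :=
      h.twoTrans c h.mem_left z hz b h.mem_right hzc (Ne.symm h.ne)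
    exact ⟨g, mem_ptStab.mpr ⟨hg, hgc⟩, hgz⟩
  refine ⟨h2, fun k hk z hz hzc hkz => ?_, fun z hz hzc a ha => ?_, hcb.1⟩
  · obtain ⟨g, hg, hgz⟩ := hmove z hz hzc
    have hk' := (Subgroup.mem_normalizer_iff.mp (hKn hg) k).mp hk
    have hmem : g * k * g⁻¹ ∈ pair S c b ⊓ centralizer (invGen S c : Set G) := by
      refine ⟨mem_pair.mpr ⟨(mem_ptStab.mp hk'.1).1, (mem_ptStab.mp hk'.1).2, ?_⟩, hk'.2⟩
      rw [← hgz]
      exact conj_smul_of_smul hkz
    rw [h.pair_cent, mem_bot] at hmem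
    exact conj_eq_one_iff.mp hmem
  · obtain ⟨g, hg, hgz⟩ := hmove z hz hzc
    obtain ⟨k, hk, d, hd, e⟩ :=
      hcb.2 (g * a * g⁻¹) (mul_mem (mul_mem hg ha) (inv_mem hg))
    obtain ⟨hgS, hgc⟩ := mem_ptStab.mp hg
    obtain ⟨hdS, hdc, hdb⟩ := mem_pair.mp hd
    refine ⟨g⁻¹ * k * g, (Subgroup.mem_normalizer_iff''.mp (hKn hg) k).mp hk, g⁻¹ * d * g,
      mem_pair.mpr ⟨mul_mem (mul_mem (inv_mem hgS) hdS) hgS, ?_, ?_⟩, ?_⟩
    · rw [mul_smul, mul_smul, hgc, hdc, inv_smul_eq_iff, hgc]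
    · rw [mul_smul, mul_smul, hgz, hdb, inv_smul_eq_iff, hgz]
    · calc a = g⁻¹ * (g * a * g⁻¹) * g := by group
        _ = g⁻¹ * k * g * (g⁻¹ * d * g) := by rw [e]; group

end Cfsg.Agent.H62.Bender.Lambda
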