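import Cfsg.Agent.H62.Bender.Lambda.Prime
import Cfsg.Agent.H62.Bender.Lambda.Finish

/-!
Assembly of LAMBDA: either a field automorphism of prime order, or a normal subgroup of the point
stabiliser containing the `2`-elements and meeting the pair stabiliser in inverted elements.
-/

set_option autoImplicit false
set_option linter.style.haveILetI false

namespace Cfsg.Agent.H62.Bender.Lambda

open Subgroup MulAction
open Cfsg.Agent.H39
open Cfsg.Agent.H73.Bender
open Cfsg.Agent.H53.SE
open Cfsg.Agent.Cores.SE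

universe u

namespace Targets

/-- A normal subgroup with the `2`-elements at `c` meeting the pair stabiliser in elements inverted
by the swapper forces the `2`-elements to be central on the involutions. -/
def NormalSub : Prop :=
  ∀ (G : Type u) [Group G] [Finite G] (Ω : Type u) [MulAction G Ω] [Finite Ω] (S : Subgroup G)
    (C : Set Ω) (c b : Ω) (w : G), CoreAll.{u} (Nat.card S) → Hyp S C c b w →
    ∀ N : Subgroup G, N ≤ ptStab S c → ptStab S c ≤ normalizer (N : Set G) →
      (∀ v ∈ ptStab S c, (∃ k, orderOf v = 2 ^ k) → v ∈ N) →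
      (∀ d ∈ N, d ∈ pair S c b → w * d * w⁻¹ = d⁻¹) → TwoCentral S c

/-- The induction through the lines of subgroups of the centraliser of the swapper. -/
def ChildStep : Prop :=
  ∀ (G : Type u) [Group G] [Finite G] (Ω : Type u) [MulAction G Ω] [Finite Ω] (S : Subgroup G)
    (C : Set Ω) (c b : Ω) (w : G), CoreAll.{u} (Nat.card S) →
    (∀ (G' : Type u) [Group G'] [Finite G'] (Ω' : Type u) [MulAction G' Ω'] [Finite Ω']
      (T : Subgroup G') (C' : Set Ω') (c' b' : Ω') (w' : G'), Nat.card T < Nat.card S →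
      CoreAll.{u} (Nat.card T) → Hyp T C' c' b' w' → Out T C' c') →
    Hyp S C c b w → ChildConcl S C c b w

end Targets

variable {G : Type u} [Group G] [Finite G] {Ω : Type u} [MulAction G Ω] [Finite Ω]
  {S : Subgroup G} {C : Set Ω} {c b : Ω} {w : G}

/-- If the centraliser of the swapper has prime order `p` and there are `2 ^ p - 1` involutions,
each of its elements fixes one involution. -/
theorem eq_of_field (h : Hyp S C c b w) (hp : (Nat.card (pairCent S c b w)).Prime)
    (hq : invBar S C c + 1 = 2 ^ Nat.card (pairCent S c b w)) :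
    ∀ d ∈ pair S c b, Commute d w → d ≠ 1 →
      ∀ s ∈ S, orderOf s = 2 → s • c = c → Commute d s →
        ∀ t ∈ S, orderOf t = 2 → t • c = c → Commute d t → s = t := by
  intro d hd hdw hd1 s hs hs2 hsc hds t ht ht2 htc hdt
  set F := pairCent S c b w with hF
  have hgal := h.pairCent_galois.2 F le_rfl
  rw [hq] at hgal
  have h2 : {e : G | e ∈ invGen S c ∧ ∀ u ∈ F, Commute u e}.ncard = 2 :=
    Nat.pow_left_injective hp.ne_zero hgal
  have hFd : zpowers d = F := by
    refine Subgroup.eq_of_le_of_card_ge (zpowers_le.mpr (mem_pairCent.mpr ⟨hd, hdw⟩)) ?_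
    rcases hp.eq_one_or_self_of_dvd _ (card_dvd_of_le
      (zpowers_le.mpr (mem_pairCent.mpr ⟨hd, hdw⟩) : zpowers d ≤ F)) with h1 | h1
    · rw [Nat.card_zpowers, orderOf_eq_one_iff] at h1
      exact absurd h1 hd1
    · exact h1.ge
  have hcomm : ∀ e : G, Commute d e → ∀ u ∈ F, Commute u e := fun e he u hu => by
    rw [← hFd] at hu
    obtain ⟨k, rfl⟩ := mem_zpowers_iff.mp hu
    exact he.zpow_left k
  have hne : ∀ e : G, orderOf e = 2 → e ≠ 1 := fun e he e1 => by
    rw [e1, orderOf_one] at he
    exact absurd he (by norm_num)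
  by_contra hst
  have h3 : ({1, s, t} : Set G) ⊆ {e : G | e ∈ invGen S c ∧ ∀ u ∈ F, Commute u e} := by
    rintro e (rfl | rfl | rfl)
    · exact ⟨one_mem _, fun u _ => Commute.one_right u⟩
    · exact ⟨h.mem_invGen_iff.mpr (Or.inr ⟨hs, hs2, hsc⟩), hcomm _ hds⟩
    · exact ⟨h.mem_invGen_iff.mpr (Or.inr ⟨ht, ht2, htc⟩), hcomm _ hdt⟩
  have h4 := Set.ncard_le_ncard h3 (Set.toFinite _)
  rw [h2, Set.ncard_eq_three.mpr ⟨1, s, t, (hne s hs2).symm, (hne t ht2).symm, hst, rfl⟩] at h4
  omega

/-- The `2`-elements at `c` centralise the involutions there. -/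
theorem twoCentral_step (hfield : Targets.FieldPrime.{u}) (hnormal : Targets.NormalSub.{u})
    (hall : CoreAll.{u} (Nat.card S)) (h : Hyp S C c b w) (hchild : ChildConcl S C c b w) :
    TwoCentral S c := by
  classical
  set F := pairCent S c b w with hF
  by_cases hcase : ∃ p, p.Prime ∧ Nat.card F = p ∧ invBar S C c + 1 = 2 ^ p
  · obtain ⟨p, hp, hFp, hq⟩ := hcase
    exact hfield G Ω S C c b w hall h (show (Nat.card F).Prime by rw [hFp]; exact hp)
      (eq_of_field h (show (Nat.card F).Prime by rw [hFp]; exact hp) (by rw [← hF, hFp]; exact hq))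
  push Not at hcase
  set H := ptStab S c with hH
  set T : Set G := {g | g ∈ H ∧ (orderOf g).Coprime (Nat.card F)} with hT
  refine hnormal G Ω S C c b w hall h (closure T) ((closure_le _).mpr fun g hg => hg.1) ?_ ?_ ?_
  · intro g hg
    have hle : T ⊆ (fun x => g * x * g⁻¹) ⁻¹' T := fun x hx =>
      ⟨mul_mem (mul_mem hg hx.1) (inv_mem hg), by rw [orderOf_conj]; exact hx.2⟩
    refine Subgroup.mem_normalizer_iff.mpr fun x => ⟨fun hx => ?_, fun hx => ?_⟩
    · have hle' : closure T ≤ (closure T).comap (MulAut.conj g).toMonoidHom :=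
        (closure_le _).mpr fun y hy => subset_closure (hle hy)
      exact hle' hx
    · have hle' : closure T ≤ (closure T).comap (MulAut.conj g⁻¹).toMonoidHom := by
        refine (closure_le _).mpr fun y hy => subset_closure ?_
        exact ⟨mul_mem (mul_mem (inv_mem hg) hy.1) (inv_mem (inv_mem hg)),
          by rw [MulEquiv.coe_toMonoidHom, MulAut.conj_apply, orderOf_conj]; exact hy.2⟩
      simpa [mul_assoc] using hle' hx
  · rintro v hv ⟨k, hk⟩
    refine subset_closure ⟨hv, ?_⟩
    rw [hk]
    exact (Nat.coprime_two_left.mpr ((h.se.odd_pair h.mem_left h.mem_right h.ne).of_dvd_nat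
      (card_dvd_of_le inf_le_left))).pow_left k
  · intro d hdN hd
    obtain ⟨A, t, hAset, hAD, hAn, hAcyc, hAcard, hfpf, hdec, ht, hiff, htr⟩ := h.exists_frame
    have hdF : (orderOf d).Coprime (Nat.card F) := Nat.coprime_of_dvd fun p hp hpd hpF => by
      haveI := Fact.mk hp
      obtain ⟨N, -, -, hNp, hN⟩ := exists_complement h hchild hpF
        fun hc => hcase p hp hc.1 hc.2
      have hle : closure T ≤ N := (closure_le _).mpr fun g hg =>
        hN g hg.1 fun hpg => Nat.not_coprime_of_dvd_of_dvd hp.one_lt hpg hpF hg.2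
      exact hNp (hpd.trans (Subgroup.orderOf_dvd_natCard N (hle hdN)))
    have h1 : zpowers d ≤ A :=
      le_of_coprime_complement ((inf_le_left : F ≤ pair S c b).trans hAn) hdec (zpowers_le.mpr hd)
        (by rw [Nat.card_zpowers]; exact hdF.symm)
    exact ((Set.ext_iff.mp hAset d).mp (h1 (mem_zpowers d))).2

/-- LAMBDA from its three inputs. -/
theorem lambdaThm_of (hfield : Targets.FieldPrime.{u}) (hnormal : Targets.NormalSub.{u})
    (hchild : Targets.ChildStep.{u}) : Targets.LambdaThm.{u} := by
  suffices key : ∀ n : ℕ, ∀ (G : Type u) [Group G] [Finite G] (Ω : Type u) [MulAction G Ω]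
      [Finite Ω] (S : Subgroup G) (C : Set Ω) (c b : Ω) (w : G), Nat.card S = n →
      CoreAll.{u} (Nat.card S) → Hyp S C c b w → Out S C c from
    fun G _ _ Ω _ _ S C c b w => key _ G Ω S C c b w rfl
  intro n
  induction n using Nat.strong_induction_on with
  | _ n ih =>
    intro G _ _ Ω _ _ S C c b w hn hall h
    refine out_of_twoCentral hall h (twoCentral_step hfield hnormal hall h
      (hchild G Ω S C c b w hall ?_ h))
    intro G' _ _ Ω' _ _ T C' c' b' w' hlt
    exact ih _ (hn ▸ hlt) G' Ω' T C' c' b' w' rfl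

end Cfsg.Agent.H62.Bender.Lambda
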