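import Cfsg.Agent.H62.Bender.Lambda.Prime
import Cfsg.Agent.H62.Bender.Lambda.Finish
import Cfsg.Agent.H62.Bender.Lambda.Main
import Cfsg.Agent.Coprime.Action
import Cfsg.Agent.H29.Bender.Sylow
import Mathlib.GroupTheory.Transfer

/-!
A normal subgroup of the point stabiliser with all `2`-elements, meeting the pair stabiliser in
inverted elements, has a normal subgroup of order prime to the number `m` of involutions with the same
property; the inverted elements normalise one of its Sylow `2`-subgroups, whose fixed involutions are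
then all of them.
-/

set_option autoImplicit false
set_option linter.style.haveILetI false

namespace Cfsg.Agent.H62.Bender.Lambda

open Subgroup MulAction
open Cfsg.Agent.H39
open Cfsg.Agent.H73.Bender
open Cfsg.Agent.H53.SE
open Cfsg.Agent.Cores.SE

universe u

variable {G : Type u} [Group G] [Finite G] {Ω : Type u} [MulAction G Ω] [Finite Ω]
  {S : Subgroup G} {C : Set Ω} {c b : Ω} {w : G}

omit [Finite G] [Finite Ω] in
/-- The conjugates of a set invariant under `H` generate a subgroup normalised by `H`. -/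
theorem le_normalizer_closure {H : Subgroup G} {T : Set G}
    (hT : ∀ g ∈ H, ∀ x ∈ T, g * x * g⁻¹ ∈ T) : H ≤ normalizer (closure T : Set G) := by
  have key : ∀ g ∈ H, ∀ x ∈ closure T, g * x * g⁻¹ ∈ closure T := fun g hg x hx => by
    have hle : closure T ≤ (closure T).comap (MulAut.conj g).toMonoidHom :=
      (closure_le _).mpr fun y hy => subset_closure (hT g hg y hy)
    exact hle hx
  intro g hg
  refine Subgroup.mem_normalizer_iff.mpr fun x => ⟨key g hg x, fun hx => ?_⟩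
  have h := key g⁻¹ (inv_mem hg) _ hx
  simpa [mul_assoc] using h

/-- Burnside: a normal subgroup meeting the pair stabiliser in inverted elements has a normal
`r`-complement for every prime `r` dividing the number of involutions. -/
theorem exists_rcomplement (h : Hyp S C c b w) {N : Subgroup G} (hN : N ≤ ptStab S c)
    (hNn : ptStab S c ≤ normalizer (N : Set G))
    (hA : ∀ d ∈ N, d ∈ pair S c b → w * d * w⁻¹ = d⁻¹) {r : ℕ} [hr : Fact r.Prime]
    (hrm : r ∣ invBar S C c) :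
    ∃ M : Subgroup G, M ≤ N ∧ ¬ r ∣ Nat.card M ∧ ∀ g ∈ N, ¬ r ∣ orderOf g → g ∈ M := by
  classical
  obtain ⟨A, t, hAset, hAD, hAn, hAcyc, hAcard, hfpf, hdec, ht, hiff, htr⟩ := h.exists_frame
  haveI := hAcyc
  set D := pair S c b with hD
  have hDH : D ≤ ptStab S c := fun g hg => mem_ptStab.mpr ⟨(mem_pair.mp hg).1, (mem_pair.mp hg).2.1⟩
  have hND : N ⊓ D ≤ A := fun d hd => by
    have h1 : d ∈ invertedBy S c b w := ⟨hd.2, hA d hd.1 hd.2⟩
    rwa [← hAset] at h1
  -- an element of prime order of `A` fixes only `c` and `b`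
  have honly : ∀ x ∈ A, orderOf x = r → ∀ y ∈ C, x • y = y → y = c ∨ y = b := fun x hx hxr y hy hxy =>
    fixed_eq_pair h.se h.faithful h.good h.mem_left h.mem_right h.ne hrm (hAD hx) hxr
      (fun s hs hs2 hsc hcomm => by
        rw [hfpf x hx s hs hs2 hsc hcomm, orderOf_one] at hxr
        exact hr.out.one_lt.ne hxr) hy hxy
  obtain ⟨⟨x, hx⟩, hxr⟩ := exists_prime_orderOf_dvd_card' r (hAcard.symm ▸ hrm : r ∣ Nat.card A)
  rw [Subgroup.orderOf_mk] at hxr
  obtain ⟨hxS, hxc, hxb⟩ := mem_pair.mp (hAD hx)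
  -- the orbit of `b`
  let X : Set Ω := {z | ∃ g ∈ N, g • b = z}
  have hXC : ∀ z ∈ X, z ∈ C ∧ z ≠ c := by
    rintro z ⟨g, hg, rfl⟩
    obtain ⟨hgS, hgc⟩ := mem_ptStab.mp (hN hg)
    exact ⟨h.se.smul_mem hgS h.mem_right,
      fun e => h.ne (MulAction.injective g (e.trans hgc.symm)).symm⟩
  letI : MulAction N X :=
    { smul := fun g z => ⟨(g : G) • z.1, by
        obtain ⟨k, hk, e⟩ := z.2
        exact ⟨g * k, mul_mem g.2 hk, by rw [mul_smul, e]⟩⟩
      one_smul := fun z => Subtype.ext (one_smul G z.1)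
      mul_smul := fun g g' z => Subtype.ext (mul_smul (g : G) (g' : G) z.1) }
  have hbX : b ∈ X := ⟨1, one_mem _, one_smul G b⟩
  haveI : IsPretransitive N X := by
    refine ⟨fun y z => ?_⟩
    obtain ⟨g, hg, hgy⟩ := y.2
    obtain ⟨k, hk, hkz⟩ := z.2
    refine ⟨⟨k * g⁻¹, mul_mem hk (inv_mem hg)⟩, Subtype.ext ?_⟩
    show (k * g⁻¹) • y.1 = z.1
    rw [← hgy, mul_smul, inv_smul_smul, hkz]
  have hidx : ((N ⊓ D).subgroupOf N).index = Nat.card X := by
    have hstab : stabilizer N (⟨b, hbX⟩ : X) = (N ⊓ D).subgroupOf N := by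
      ext g
      rw [mem_stabilizer_iff, mem_subgroupOf]
      exact ⟨fun e => ⟨g.2, mem_pair.mpr ⟨(mem_ptStab.mp (hN g.2)).1, (mem_ptStab.mp (hN g.2)).2,
        congrArg Subtype.val e⟩⟩, fun e => Subtype.ext (mem_pair.mp e.2).2.2⟩
    rw [← hstab, index_stabilizer_of_transitive]
  have hxX : ∀ p ∈ zpowers x, ∀ z ∈ X, p • z ∈ X := by
    rintro p hp z ⟨g, hg, rfl⟩
    have hpA : p ∈ A := zpowers_le.mpr hx hp
    refine ⟨p * g * p⁻¹, (Subgroup.mem_normalizer_iff.mp (hNn (hDH (hAD hpA))) g).mp hg, ?_⟩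
    rw [mul_smul, mul_smul, inv_smul_eq_iff.mpr (mem_pair.mp (hAD hpA)).2.2.symm]
  letI : MulAction (zpowers x) X :=
    { smul := fun p z => ⟨(p : G) • z.1, hxX p p.2 z z.2⟩
      one_smul := fun z => Subtype.ext (one_smul G z.1)
      mul_smul := fun p p' z => Subtype.ext (mul_smul (p : G) (p' : G) z.1) }
  have hX : ¬ r ∣ Nat.card X := by
    have hp : IsPGroup r (zpowers x) :=
      IsPGroup.of_card (n := 1) (by rw [Nat.card_zpowers, hxr, pow_one])
    have hfix : Nat.card (fixedPoints (zpowers x) X) = 1 := by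
      refine Nat.card_eq_one_iff_unique.mpr ⟨⟨fun y z => ?_⟩, ⟨⟨⟨b, hbX⟩, fun p => Subtype.ext ?_⟩⟩⟩
      · have key : ∀ y : fixedPoints (zpowers x) X, (y.1 : Ω) = b := fun y =>
          (honly x hx hxr _ (hXC _ y.1.2).1
            (congrArg Subtype.val (y.2 ⟨x, mem_zpowers x⟩))).resolve_left (hXC _ y.1.2).2
        exact Subtype.ext (Subtype.ext ((key y).trans (key z).symm))
      · exact mem_stabilizer_iff.mp ((zpowers_le.mpr (mem_stabilizer_iff.mpr hxb) :
          zpowers x ≤ stabilizer G b) p.2)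
    intro hd
    have h1 := (hp.card_modEq_card_fixedPoints X).dvd_iff dvd_rfl |>.mp hd
    rw [hfix] at h1
    exact hr.out.not_dvd_one h1
  -- Burnside in `N`
  obtain ⟨R⟩ : Nonempty (Sylow r (N ⊓ D : Subgroup G)) := inferInstance
  set P : Subgroup G := (R : Subgroup (N ⊓ D : Subgroup G)).map (N ⊓ D).subtype with hP
  have hPND : P ≤ N ⊓ D := map_subtype_le _
  have hPN : P ≤ N := hPND.trans inf_le_left
  have hPr : IsPGroup r (P.subgroupOf N) := (R.2.map _).comap_subtype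
  have hPidx : ¬ r ∣ (P.subgroupOf N).index := by
    have hle : P.subgroupOf N ≤ (N ⊓ D).subgroupOf N := fun g hg =>
      mem_subgroupOf.mpr (hPND (mem_subgroupOf.mp hg))
    rw [← relIndex_mul_index hle, hidx, relIndex_subgroupOf inf_le_left]
    intro hd
    rcases (Nat.Prime.dvd_mul hr.out).mp hd with h1 | h1
    · refine R.not_dvd_index ?_
      rwa [hP, Subgroup.relIndex, Subgroup.subgroupOf,
        comap_map_eq_self_of_injective (N ⊓ D).subtype_injective] at h1
    · exact hX h1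
  let Q : Sylow r N := hPr.toSylow hPidx
  have hQ : normalizer ((Q : Subgroup N) : Set N) ≤ centralizer ((Q : Subgroup N) : Set N) := by
    intro g hg
    refine mem_centralizer_iff.mpr fun y hy => ?_
    by_cases hy1 : y = 1
    · rw [hy1, one_mul, mul_one]
    have hyP : (y : G) ∈ P := mem_subgroupOf.mp hy
    obtain ⟨e, he⟩ := (IsPGroup.iff_orderOf.mp (R.2.map (N ⊓ D).subtype)) ⟨y, hyP⟩
    rw [Subgroup.orderOf_mk] at he
    have he0 : e ≠ 0 := by
      rintro rfl
      rw [pow_zero, orderOf_eq_one_iff] at he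
      exact hy1 (Subtype.ext he)
    -- a power of order `r`
    set z : N := y ^ r ^ (e - 1) with hz
    have hzA : (z : G) ∈ A := hND (hPND (mem_subgroupOf.mp (pow_mem hy _)))
    have hzr : orderOf (z : G) = r := by
      rw [hz, Subgroup.coe_pow, orderOf_pow' _ (pow_ne_zero _ hr.out.ne_zero), he,
        Nat.gcd_eq_right (pow_dvd_pow r (Nat.sub_le e 1)), Nat.pow_div (Nat.sub_le e 1) hr.out.pos,
        show e - (e - 1) = 1 by omega, pow_one]
    have hconj : (g : G)⁻¹ * z * g ∈ D := (hPND (mem_subgroupOf.mp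
      ((Subgroup.mem_normalizer_iff''.mp hg z).mp (pow_mem hy _)))).2
    obtain ⟨hgS, hgc⟩ := mem_ptStab.mp (hN g.2)
    have hgb : (z : G) • ((g : G) • b) = (g : G) • b := by
      have h2 := (mem_pair.mp hconj).2.2
      rwa [mul_smul, mul_smul, inv_smul_eq_iff] at h2
    have hgb' : (g : G) • b = b := (honly _ hzA hzr _ (h.se.smul_mem hgS h.mem_right) hgb).resolve_left
      fun e' => h.ne (MulAction.injective (g : G) (e'.trans hgc.symm)).symm
    have hgA : (g : G) ∈ A := hND ⟨g.2, mem_pair.mpr ⟨hgS, hgc, hgb'⟩⟩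
    letI := IsCyclic.commGroup (α := A)
    exact Subtype.ext (congrArg Subtype.val (mul_comm (⟨y, hND (hPND hyP)⟩ : A) ⟨g, hgA⟩) : _)
  refine ⟨(MonoidHom.transferSylow Q hQ).ker.map N.subtype, map_subtype_le _, ?_,
    fun g hg hgo => ⟨⟨g, hg⟩, ?_, rfl⟩⟩
  · rw [card_map_of_injective N.subtype_injective]
    exact MonoidHom.not_dvd_card_ker_transferSylow Q hQ
  · rw [SetLike.mem_coe, MonoidHom.mem_ker]
    obtain ⟨e, he⟩ := (IsPGroup.iff_orderOf.mp Q.2) (MonoidHom.transferSylow Q hQ ⟨g, hg⟩)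
    rw [← orderOf_eq_one_iff, he]
    rcases Nat.eq_zero_or_pos e with rfl | hpos
    · exact pow_zero r
    refine absurd ?_ hgo
    have h1 := (dvd_pow_self r hpos.ne').trans
      (he ▸ orderOf_map_dvd (MonoidHom.transferSylow Q hQ) (⟨g, hg⟩ : N))
    rwa [Subgroup.orderOf_mk] at h1

/-- A normal subgroup with all `2`-elements meeting the pair stabiliser in inverted elements makes the
`2`-elements central on the involutions. -/
theorem normalSub : Targets.NormalSub.{u} := by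
  intro G _ _ Ω _ _ S C c b w _ h N hN hNn h2N hA
  classical
  obtain ⟨A, t₀, hAset, hAD, hAn, hAcyc, hAcard, hfpf, hdec, ht₀, hiff, htr⟩ := h.exists_frame
  haveI := hAcyc
  set H := ptStab S c with hH
  set m := invBar S C c with hm
  have hmodd : Odd m :=
    hAcard ▸ (h.se.odd_pair h.mem_left h.mem_right h.ne).of_dvd_nat (card_dvd_of_le hAD)
  set T : Set G := {g | g ∈ N ∧ (orderOf g).Coprime m} with hT
  set M := closure T with hM
  have hMN : M ≤ N := (closure_le _).mpr fun g hg => hg.1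
  have hMcop : (Nat.card M).Coprime m := Nat.coprime_of_dvd fun r hr hrM hrm => by
    haveI := Fact.mk hr
    obtain ⟨M', -, hM'r, hM'⟩ := exists_rcomplement h hN hNn hA hrm
    exact hM'r (hrM.trans (card_dvd_of_le ((closure_le _).mpr fun g hg =>
      hM' g hg.1 fun hd => Nat.not_coprime_of_dvd_of_dvd hr.one_lt hd hrm hg.2)))
  have hMn : H ≤ normalizer (M : Set G) := le_normalizer_closure fun g hg x hx =>
    ⟨(Subgroup.mem_normalizer_iff.mp (hNn hg) x).mp hx.1, by rw [orderOf_conj]; exact hx.2⟩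
  have h2M : ∀ v ∈ H, (∃ k, orderOf v = 2 ^ k) → v ∈ M := by
    rintro v hv ⟨k, hk⟩
    refine subset_closure ⟨h2N v hv ⟨k, hk⟩, ?_⟩
    rw [hk]
    exact (Nat.coprime_two_left.mpr hmodd).pow_left k
  haveI : Fact (Nat.Prime 2) := ⟨Nat.prime_two⟩
  have hDH : pair S c b ≤ H := fun g hg => mem_ptStab.mpr ⟨(mem_pair.mp hg).1, (mem_pair.mp hg).2.1⟩
  obtain ⟨P, hPA⟩ := Coprime.exists_invariant_sylow (A := A) (K := M) ((hAD.trans hDH).trans hMn)
    (by rw [hAcard]; exact hMcop.symm)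
    (Or.inl (letI := IsCyclic.commGroup (α := A); inferInstance)) 2
  set T₂ : Subgroup G := (P : Subgroup M).map M.subtype with hT₂
  set E := invGen S c with hE
  have hHE : H ≤ normalizer (E : Set G) := ptStab_le_normalizer_invGen c
  -- the involutions lie in every Sylow `2`-subgroup
  have hEM : E ≤ M := (closure_le _).mpr fun s hs => h2M s (mem_ptStab.mpr ⟨hs.1, hs.2.2⟩)
    ⟨1, by rw [hs.2.1, pow_one]⟩
  have hE2 : IsPGroup 2 E := IsPGroup.iff_orderOf.mpr fun ⟨e, he⟩ => by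
    rcases h.mem_invGen_iff.mp he with rfl | ⟨-, he2, -⟩
    · exact ⟨0, by rw [Subgroup.orderOf_mk, orderOf_one, pow_zero]⟩
    · exact ⟨1, by rw [Subgroup.orderOf_mk, he2, pow_one]⟩
  have hT₂M : T₂ ≤ M := map_subtype_le _
  have hT₂H : T₂ ≤ H := (hT₂M.trans hMN).trans hN
  haveI : (E.comap M.subtype).Normal := normal_subgroupOf_of_le_normalizer ((hMN.trans hN).trans hHE)
  have hEP : E.subgroupOf M ≤ (P : Subgroup M) :=
    le_sup_left.trans (P.3 (IsPGroup.to_sup_of_normal_left hE2.comap_subtype P.2) le_sup_right).le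
  have hT₂p : IsPGroup 2 T₂ := P.2.map _
  -- fixed involutions
  let φ : T₂ →* MulAut E := (Subgroup.normalizerMonoidHom E).comp (Subgroup.inclusion (hT₂H.trans hHE))
  have hrg : IsPGroup 2 φ.range := hT₂p.of_surjective φ.rangeRestrict φ.rangeRestrict_surjective
  have hEdvd : 2 ∣ Nat.card E := by
    rw [hE, h.card_invGen, ← even_iff_two_dvd]
    exact hmodd.add_one
  obtain ⟨e₀, he₀fix, he₀1⟩ := hrg.exists_fixed_point_of_prime_dvd_card_of_fixed_point E hEdvd
    (a := 1) (fun q => map_one (q : MulAut E))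
  have hfix : ∀ v ∈ T₂, Commute v (e₀ : G) := fun v hv => by
    have e : v * (e₀ : G) * v⁻¹ = e₀ :=
      congrArg Subtype.val (he₀fix ⟨φ ⟨v, hv⟩, ⟨⟨v, hv⟩, rfl⟩⟩)
    exact mul_inv_eq_iff_eq_mul.mp e
  obtain ⟨hsS, hs2, hsc⟩ : (e₀ : G) ∈ S ∧ orderOf (e₀ : G) = 2 ∧ (e₀ : G) • c = c :=
    (h.mem_invGen_iff.mp e₀.2).resolve_left fun h1 => he₀1 (Subtype.ext h1.symm)
  -- they are all fixed
  have hall : ∀ v ∈ T₂, ∀ s ∈ S, orderOf s = 2 → s • c = c → Commute v s := by
    intro v hv s hs hs2' hsc'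
    obtain ⟨i, hi, hie⟩ := htr (e₀ : G) hsS hs2 hsc
    obtain ⟨j, hj, hjs⟩ := htr s hs hs2' hsc'
    have hk : j * i⁻¹ ∈ A := mul_mem hj (inv_mem hi)
    have hs' : s = (j * i⁻¹) * e₀ * (j * i⁻¹)⁻¹ := by rw [← hjs, ← hie]; group
    have hv' := hfix _ ((Subgroup.mem_normalizer_iff''.mp (hPA hk) v).mp hv)
    rw [hs', ← Commute.conj_iff (j * i⁻¹)⁻¹]
    simpa [mul_assoc] using hv'
  -- the other Sylow subgroups are conjugate
  intro v hv hv2 s hs hs2' hsc'
  obtain ⟨k, hk⟩ := hv2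
  have hvp : IsPGroup 2 (zpowers (⟨v, h2M v hv ⟨k, hk⟩⟩ : M)) :=
    IsPGroup.of_card (n := k) (by rw [Nat.card_zpowers, Subgroup.orderOf_mk, hk])
  obtain ⟨Q, hQ⟩ := hvp.exists_le_sylow
  obtain ⟨g, hg⟩ := exists_smul_eq M P Q
  have hvQ : (⟨v, h2M v hv ⟨k, hk⟩⟩ : M) ∈ (Q : Subgroup M) := hQ (mem_zpowers _)
  rw [← hg] at hvQ
  obtain ⟨p, hp, hpv⟩ := hvQ
  have hgH : (g : G) ∈ H := hN (hMN g.2)
  obtain ⟨hgS, hgc⟩ := mem_ptStab.mp hgH
  have hv' : v = (g : G) * p * (g : G)⁻¹ := by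
    have e := congrArg Subtype.val hpv
    simpa using e.symm
  have hgc' : (g : G)⁻¹ • c = c := by rw [inv_smul_eq_iff, hgc]
  have hp' := hall (p : G) ⟨p, hp, rfl⟩ ((g : G)⁻¹ * s * g) (mul_mem (mul_mem (inv_mem hgS) hs) hgS)
    (by rw [show (g : G)⁻¹ * s * g = (g : G)⁻¹ * s * (g : G)⁻¹⁻¹ by group, orderOf_conj, hs2'])
    (by rw [mul_smul, mul_smul, hgc, hsc', hgc'])
  rw [hv']
  have := (Commute.conj_iff (g : G)).mpr hp'
  simpa [mul_assoc] using this

end Cfsg.Agent.H62.Bender.Lambda
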