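import Cfsg.Agent.H62.Bender.Lambda.Prime
import Cfsg.Agent.Cores.SE.CoreNilpotent

/-!
LAMBDA for a line: a non-trivial subgroup `U` of the centraliser of the swapper which is centralised
by two involutions at `c`.  The points fixed by `U` form the line of its centraliser; by induction
there are a power of two of them besides `c`, and the normaliser of `U` at `c` centralises it.
-/

set_option autoImplicit false
set_option linter.style.haveILetI false

namespace Cfsg.Agent.H62.Bender.Lambda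

open Subgroup MulAction
open Cfsg.Agent.H39
open Cfsg.Agent.H73.Bender
open Cfsg.Agent.H53.SE
open Cfsg.Agent.Cores.SE

universe u

variable {G : Type u} [Group G] [Finite G] {Ω : Type u} [MulAction G Ω] [Finite Ω]
  {S : Subgroup G} {C : Set Ω} {c b : Ω} {w : G}

omit [Finite G] [Finite Ω] in
/-- The hypotheses move along the point stabiliser. -/
theorem Hyp.move (h : Hyp S C c b w) {g : G} (hg : g ∈ ptStab S c) :
    Hyp S C c (g • b) (g * w * g⁻¹) := by
  obtain ⟨hgS, hgc⟩ := mem_ptStab.mp hg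
  have hgc' : g⁻¹ • c = c := by rw [inv_smul_eq_iff, hgc]
  have hpair : ∀ x : G, x ∈ pair S c (g • b) → g⁻¹ * x * g ∈ pair S c b := fun x hx => by
    obtain ⟨hxS, hxc, hxb⟩ := mem_pair.mp hx
    exact mem_pair.mpr ⟨mul_mem (mul_mem (inv_mem hgS) hxS) hgS,
      by rw [mul_smul, mul_smul, hgc, hxc, hgc'],
      by rw [mul_smul, mul_smul, hxb, inv_smul_smul]⟩
  refine ⟨h.se, h.rankTwo, h.faithful, h.mem_left, h.se.smul_mem hgS h.mem_right,
    fun e => h.ne (MulAction.injective g (hgc.trans e)), conj_mem_of_mem hgS h.swap_mem,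
    by rw [orderOf_conj, h.swap_inv], by rw [mul_smul, mul_smul, hgc', h.swap], h.comm, ?_, ?_⟩
  · refine eq_bot_iff.mpr fun x hx => ?_
    obtain ⟨hx1, hx2⟩ := hx
    have hK : x ∈ centInv S c :=
      ⟨mem_ptStab.mpr ⟨(mem_pair.mp hx1).1, (mem_pair.mp hx1).2.1⟩, hx2⟩
    have hm : g⁻¹ * x * g ∈ pair S c b ⊓ centralizer (invGen S c : Set G) :=
      ⟨hpair x hx1, ((Subgroup.mem_normalizer_iff''.mp (ptStab_le_normalizer_centInv c hg) x).mp hK).2⟩
    rw [h.pair_cent, mem_bot] at hm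
    rw [mem_bot]
    calc x = g * (g⁻¹ * x * g) * g⁻¹ := by group
      _ = 1 := by rw [hm]; group
  · have hle : pair S c (g • b) ⊓ centralizer ({g * w * g⁻¹} : Set G) ≤
        (pair S c b ⊓ centralizer ({w} : Set G)).map (MulAut.conj g).toMonoidHom := by
      rintro x ⟨hx1, hx2⟩
      refine ⟨g⁻¹ * x * g, ⟨hpair x hx1, mem_centralizer_singleton_iff.mpr ?_⟩, by simp [mul_assoc]⟩
      have e := mem_centralizer_singleton_iff.mp hx2
      calc g⁻¹ * x * g * w = g⁻¹ * (x * (g * w * g⁻¹)) * g := by group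
        _ = w * (g⁻¹ * x * g) := by rw [e]; group
    have hdvd := card_dvd_of_le hle
    rw [card_map_of_injective (MulAut.conj g).injective] at hdvd
    exact Nat.Coprime.coprime_dvd_left hdvd h.coprime

/-- A subgroup fixing `z` and commuting with an involution at `c` commutes with a swapper of
`(c, z)`. -/
theorem Hyp.exists_swapper (h : Hyp S C c b w) {z : Ω} (hz : z ∈ C) (hzc : z ≠ c) {U : Subgroup G}
    (hU : U ≤ pair S c z) {t : G} (ht : t ∈ S) (ht2 : orderOf t = 2) (htc : t • c = c)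
    (hUt : ∀ u ∈ U, Commute u t) :
    ∃ s ∈ S, orderOf s = 2 ∧ s • c = z ∧ ∀ u ∈ U, Commute u s := by
  obtain ⟨g, hgS, hgc, rfl⟩ :=
    h.twoTrans c h.mem_left b h.mem_right z hz (Ne.symm h.ne) hzc
  have h' := h.move (mem_ptStab.mpr ⟨hgS, hgc⟩)
  obtain ⟨A, t₀, -, hAD, -, -, -, -, -, -, hiff, htr⟩ := h'.exists_frame
  obtain ⟨j, hj, hjt⟩ := htr t ht ht2 htc
  obtain ⟨hjS, hjc, hjz⟩ := mem_pair.mp (hAD hj)
  refine ⟨j * (g * w * g⁻¹) * j⁻¹, conj_mem_of_mem hjS h'.swap_mem,
    by rw [orderOf_conj, h'.swap_inv], ?_, fun u hu => ?_⟩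
  · rw [mul_smul, mul_smul, inv_smul_eq_iff.mpr hjc.symm, h'.swap, hjz]
  · have hu' : j⁻¹ * u * j ∈ pair S c (g • b) :=
      mul_mem (mul_mem (inv_mem (hAD hj)) (hU hu)) (hAD hj)
    have h1 : Commute (j⁻¹ * u * j) t₀ := by
      rw [← Commute.conj_iff j, show j * (j⁻¹ * u * j) * j⁻¹ = u by group, hjt]
      exact hUt u hu
    have h2 := (mem_pairCent.mp ((hiff _ hu').mp h1)).2
    rw [← Commute.conj_iff j, show j * (j⁻¹ * u * j) * j⁻¹ = u by group] at h2
    exact h2

omit [Finite G] [Finite Ω] in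
/-- An element at `c` whose commutator with an involution at `c` lies in an odd subgroup commutes
with it. -/
theorem commute_of_commutator_odd (hcomm : CommAt S c) {K : Subgroup G} (hK : Odd (Nat.card K))
    {k s : G} (hk : k ∈ S) (hkc : k • c = c) (hs : s ∈ S) (hs2 : orderOf s = 2) (hsc : s • c = c)
    (hks : k * s * k⁻¹ * s ∈ K) : Commute k s := by
  have hkc' : k⁻¹ • c = c := by rw [inv_smul_eq_iff, hkc]
  have hst := hcomm (k * s * k⁻¹) (conj_mem_of_mem hk hs) s hs (by rw [orderOf_conj, hs2]) hs2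
    (by rw [mul_smul, mul_smul, hkc', hsc, hkc]) hsc
  have hss := mul_self_of_orderOf_eq_two hs2
  have h1 : k * s * k⁻¹ * s = 1 := by
    by_contra hne
    have hsq : k * s * k⁻¹ * s * (k * s * k⁻¹ * s) = 1 := by
      rw [hst.symm.mul_mul_mul_comm (k * s * k⁻¹) s, hss, mul_one,
        mul_self_of_orderOf_eq_two (by rw [orderOf_conj, hs2])]
    have h2 := Subgroup.orderOf_dvd_natCard K hks
    rw [orderOf_eq_two_of_mul_self hsq hne, ← even_iff_two_dvd] at h2
    exact Nat.not_even_iff_odd.mpr hK h2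
  refine mul_inv_eq_iff_eq_mul.mp ?_
  rw [mul_eq_one_iff_eq_inv.mp h1, inv_eq_of_orderOf_eq_two hs2]

/-- A nilpotent centraliser of the involutions, in a configuration where the odd core theorem
holds, is a `2`-group. -/
theorem card_centInv_eq_pow (h : Hyp S C c b w) (hcore : CoreAt S C)
    (hnil : Group.IsNilpotent (centInv S c)) : ∃ i, Nat.card (centInv S c) = 2 ^ i := by
  set K := centInv S c with hKdef
  have hKn : ptStab S c ≤ normalizer (K : Set G) := ptStab_le_normalizer_centInv c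
  refine ⟨_, Nat.eq_prime_pow_of_unique_prime_dvd Nat.card_pos.ne' fun {q} hq hdvd => ?_⟩
  by_contra hq2
  haveI : Fact q.Prime := ⟨hq⟩
  obtain ⟨Q, -, hQ⟩ := H29.Bender.exists_isSyl_ge (D := K) (P := ⊥) bot_le (IsPGroup.of_bot (p := q))
  obtain ⟨R, hR⟩ := hQ.exists_sylow
  have hRn : (R : Subgroup K).Normal :=
    ((Group.isNilpotent_of_finite_tfae (G := K)).out 0 3 rfl rfl).1 hnil q inferInstance R
  haveI := Sylow.unique_of_normal R hRn
  have hQn : ptStab S c ≤ normalizer (Q : Set G) := by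
    intro g hg
    refine Coprime.mem_normalizer_of_map_conj ?_
    have hQ' : H29.Bender.IsSyl q K (Q.map (MulAut.conj g).toMonoidHom) :=
      ⟨H29.Bender.map_conj_le hQ.le (hKn hg), hQ.pgroup.map _, fun P hP hPq => by
        rw [card_map_of_injective (MulAut.conj g).injective]; exact hQ.max P hP hPq⟩
    obtain ⟨R', hR'⟩ := hQ'.exists_sylow
    rw [← hR', ← hR, Subsingleton.elim R' R]
  have hQ1 := hcore h.se h.rankTwo h.good c h.mem_left Q (hQ.le.trans inf_le_left)
    (H29.Bender.odd_card_of_isPGroup hQ.pgroup (hq.odd_of_ne_two hq2)) hQn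
  rw [show kernel S C = ⊥ from h.faithful, le_bot_iff] at hQ1
  have hc1 := hQ.card_eq
  rw [hQ1, Subgroup.card_bot, eq_comm, Nat.pow_eq_one] at hc1
  rcases hc1 with hc1 | hc1
  · exact hq.ne_one hc1
  · exact absurd (hq.factorization_pos_of_dvd Nat.card_pos.ne' hdvd) (by omega)

/-- LAMBDA for the line of a subgroup of the centraliser of the swapper. -/
theorem child (hall : CoreAll.{u} (Nat.card S))
    (ih : ∀ (G' : Type u) [Group G'] [Finite G'] (Ω' : Type u) [MulAction G' Ω'] [Finite Ω']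
      (T : Subgroup G') (C' : Set Ω') (c' b' : Ω') (w' : G'), Nat.card T < Nat.card S →
      CoreAll.{u} (Nat.card T) → Hyp T C' c' b' w' → Out T C' c')
    (h : Hyp S C c b w) : ChildConcl S C c b w := by
  intro U hUF hU1 hab h2 hclosed
  have hU : U ≤ pair S c b := fun u hu => (mem_pairCent.mp (hUF hu)).1
  have hUw : ∀ u ∈ U, Commute u w := fun u hu => (mem_pairCent.mp (hUF hu)).2
  classical
  obtain ⟨s, hsE, t, htE, hs1, ht1, hst, hUs, hUt⟩ := h2
  obtain ⟨hs, hs2, hsc⟩ := (h.mem_invGen_iff.mp hsE).resolve_left hs1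
  obtain ⟨ht, ht2, htc⟩ := (h.mem_invGen_iff.mp htE).resolve_left ht1
  have hS := h.se
  have hUab : ∀ u ∈ U, ∀ v ∈ U, Commute u v := fun u hu v hv =>
    hab u (hU hu) (Subgroup.le_normalizer hu) v hv
  have hUodd : Odd (Nat.card U) :=
    (hS.odd_pair h.mem_left h.mem_right h.ne).of_dvd_nat (card_dvd_of_le hU)
  set T : Subgroup G := S ⊓ centralizer (U : Set G) with hT
  have hTS : T ≤ S := inf_le_left
  have hmemT : ∀ x : G, x ∈ S → (∀ u ∈ U, Commute u x) → x ∈ T :=
    fun x hx hxU => ⟨hx, mem_centralizer_iff.mpr fun u hu => (hxU u hu).eq⟩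
  have hTU : ∀ x ∈ T, ∀ u ∈ U, Commute u x := fun x hx u hu => mem_centralizer_iff.mp hx.2 u hu
  have hTn : T ≤ normalizer (U : Set G) :=
    inf_le_right.trans (Subgroup.centralizer_le_normalizer _)
  have hUT : U ≤ T := fun u hu =>
    hmemT u (mem_pair.mp (hU hu)).1 fun v hv => hUab v hv u hu
  have htT := hmemT t ht hUt
  have hwT := hmemT w h.swap_mem hUw
  set L : Set Ω := points T C with hLdef
  have hcL : c ∈ L := ⟨h.mem_left, t, htT, ht2, htc⟩
  have hfixL : ∀ z ∈ C, z ≠ c → (∀ u ∈ U, u • z = z) → z ∈ L := by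
    intro z hz hzc hUz
    obtain ⟨r, hr, hr2, hrz, hUr⟩ := h.exists_swapper hz hzc (U := U)
      (fun u hu => mem_pair.mpr ⟨(mem_pair.mp (hU hu)).1, (mem_pair.mp (hU hu)).2.1, hUz u hu⟩)
      ht ht2 htc hUt
    have hrT := hmemT r hr hUr
    exact ⟨hz, r * t * r⁻¹, mul_mem (mul_mem hrT htT) (inv_mem hrT), by rw [orderOf_conj, ht2],
      hrz ▸ conj_smul_of_smul htc⟩
  have hbL : b ∈ L := hfixL b h.mem_right (Ne.symm h.ne) fun u hu => (mem_pair.mp (hU hu)).2.2
  have hline : SE T L := hS.line hTS hcL hbL h.ne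
  have hrT : RankTwo T := ⟨s, hmemT s hs hUs, t, htT, hs2, ht2, hst,
    h.comm s hs t ht hs2 ht2 hsc htc⟩
  have hUK : U ≤ kernel T L := hline.le_kernel_of_odd hrT hUT hUodd hTn
  have hLfix : ∀ z : Ω, z ∈ L ↔ z ∈ C ∧ ∀ u ∈ U, u • z = z := fun z => by
    refine ⟨fun hz => ⟨hz.1, fun u hu => (mem_kernel.mp (hUK hu)).2 z hz⟩, fun hz => ?_⟩
    by_cases hzc : z = c
    · exact hzc ▸ hcL
    · exact hfixL z hz.1 hzc hz.2
  refine ⟨?_, fun g hg hgU u hu => ?_⟩
  swap
  · obtain ⟨hgS, hgc⟩ := mem_ptStab.mp hg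
    have hgb : g • b ∈ L := (hLfix _).mpr ⟨hS.smul_mem hgS h.mem_right, fun v hv => by
      have hv' := (mem_pair.mp (hU ((Subgroup.mem_normalizer_iff''.mp hgU v).mp hv))).2.2
      rwa [mul_smul, mul_smul, inv_smul_eq_iff] at hv'⟩
    obtain ⟨k, hk, hkc, hkb⟩ := good_twoTrans hline hrT (h.good.subline hTS (points_subset T C))
      c hcL (g • b) hgb b hbL
      (fun e => h.ne (MulAction.injective g (e.trans hgc.symm)).symm) (Ne.symm h.ne)
    have hd : k * g ∈ pair S c b := mem_pair.mpr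
      ⟨mul_mem (hTS hk) hgS, by rw [mul_smul, hgc, hkc], by rw [mul_smul, hkb]⟩
    have h1 := hab _ hd (mul_mem (hTn hk) hgU) u hu
    have h2' := ((hTU k hk u hu).symm.inv_left).mul_left h1
    rwa [inv_mul_cancel_left] at h2'
  -- the kernel of the line is `U`
  have hKU : ∀ d ∈ T, d • c = c → d • b = b →
      (∀ r ∈ T, orderOf r = 2 → r • c = c → d * r * d⁻¹ * r ∈ kernel T L) → d ∈ U := by
    intro d hdT hdc hdb hd
    refine hclosed d (mem_pair.mpr ⟨hTS hdT, hdc, hdb⟩) fun r hrE hUr => ?_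
    rcases h.mem_invGen_iff.mp hrE with rfl | ⟨hr, hr2, hrc⟩
    · exact Commute.one_right d
    · exact commute_of_commutator_odd h.comm hline.odd_kernel (hTS hdT) hdc hr hr2 hrc
        (hd r (hmemT r hr hUr) hr2 hrc)
  have hker : ∀ d ∈ kernel T L, d ∈ U := fun d hd => by
    obtain ⟨hdT, hdfix⟩ := mem_kernel.mp hd
    refine hKU d hdT (hdfix c hcL) (hdfix b hbL) fun r hr hr2 _ => ?_
    rw [show d * r * d⁻¹ * r = d * (r * d⁻¹ * r⁻¹) by
      rw [inv_eq_of_orderOf_eq_two hr2]; group]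
    exact mul_mem hd ((Subgroup.mem_normalizer_iff.mp (le_normalizer_kernel hline hr) _).mp
      (inv_mem hd))
  -- the configuration on the line
  set I := Image hline with hI
  set c' : L := ⟨c, hcL⟩ with hc'
  set b' : L := ⟨b, hbL⟩ with hb'
  set w' : Equiv.Perm L := cPerm hline ⟨w, hwT⟩ with hw'
  have hlt : Nat.card I < Nat.card S := by
    refine lt_of_lt_of_le ?_ (Subgroup.card_le_of_le hTS)
    rw [← card_image_mul hline]
    exact lt_mul_of_one_lt_right Nat.card_pos
      ((Subgroup.one_lt_card_iff_ne_bot _).mpr fun e => hU1 (eq_bot_mono hUK e))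
  have hallI : CoreAll.{u} (Nat.card I) := fun G' _ _ Ω' _ _ T' C' hlt' =>
    hall G' Ω' T' C' (hlt'.trans hlt)
  have hinv : ∀ r : G, ∀ hr : r ∈ T, orderOf r = 2 → r • c = c →
      cPerm hline ⟨r, hr⟩ ∈ I ∧ orderOf (cPerm hline ⟨r, hr⟩) = 2 ∧
        cPerm hline ⟨r, hr⟩ • c' = c' :=
    fun r hr hr2 hrc => ⟨⟨_, rfl⟩,
      orderOf_cPerm_inv hline ((Subgroup.orderOf_mk r hr).trans hr2), Subtype.ext hrc⟩
  have hlift : ∀ x : Equiv.Perm L, x ∈ I → orderOf x = 2 → x • c' = c' →
      ∃ r : T, cPerm hline r = x ∧ (r : G) ∈ S ∧ orderOf (r : G) = 2 ∧ (r : G) • c = c := by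
    intro x hx hx2 hxc
    obtain ⟨r, hr2, rfl⟩ := exists_inv_lift hline hx hx2
    exact ⟨r, rfl, hTS r.2, (Subgroup.orderOf_coe r).trans hr2, congrArg Subtype.val hxc⟩
  have hcommI : CommAt I c' := by
    intro x hx y hy hx2 hy2 hxc hyc
    obtain ⟨r, rfl, hr, hr2, hrc⟩ := hlift x hx hx2 hxc
    obtain ⟨r', rfl, hr', hr'2, hr'c⟩ := hlift y hy hy2 hyc
    exact (show Commute r r' from Subtype.ext (h.comm _ hr _ hr' hr2 hr'2 hrc hr'c).eq).map _
  have hHyp : Hyp I (Set.univ : Set L) c' b' w' := by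
    refine ⟨se_image hline, rankTwo_image hline hrT, faithful_image hline, Set.mem_univ _,
      Set.mem_univ _, fun e => h.ne (congrArg Subtype.val e), ⟨_, rfl⟩,
      orderOf_cPerm_inv hline ((Subgroup.orderOf_mk w hwT).trans h.swap_inv),
      Subtype.ext h.swap, hcommI, ?_, ?_⟩
    · refine eq_bot_iff.mpr fun x hx => ?_
      obtain ⟨hx1, hx2⟩ := hx
      obtain ⟨⟨d, rfl⟩, hdc, hdb⟩ := mem_pair.mp hx1
      have hdc' : (d : G) • c = c := congrArg Subtype.val hdc
      have hdb' : (d : G) • b = b := congrArg Subtype.val hdb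
      refine mem_bot.mpr ((cPerm_eq_one_iff hline d).mpr
        (hUK (hKU d d.2 hdc' hdb' fun r hr hr2 hrc => ?_)))
      have hcd := mem_centralizer_iff.mp hx2 _ (subset_closure (hinv r hr hr2 hrc))
      have e : cPerm hline (d * ⟨r, hr⟩ * d⁻¹ * ⟨r, hr⟩) = 1 := by
        rw [map_mul, map_mul, map_mul, map_inv, ← hcd, mul_inv_cancel_right, ← map_mul,
          show (⟨r, hr⟩ : T) * ⟨r, hr⟩ = 1 from Subtype.ext (mul_self_of_orderOf_eq_two hr2),
          map_one]
      exact (cPerm_eq_one_iff hline _).mp e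
    · -- the fixed involutions
      have hgal := h.pairCent_galois.2 U hUF
      have hset : Nat.card {e : G // e ∈ invGen S c ∧ ∀ u ∈ U, Commute u e} =
          invBar I (Set.univ : Set L) c' + 1 := by
        have hs : {e : G | e ∈ invGen S c ∧ ∀ u ∈ U, Commute u e} =
            insert 1 {r | r ∈ T ∧ orderOf r = 2 ∧ r • c = c} := by
          ext e
          refine ⟨fun ⟨he, hUe⟩ => ?_, ?_⟩
          · rcases h.mem_invGen_iff.mp he with h1 | ⟨h1, h2', h3⟩
            · exact Or.inl h1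
            · exact Or.inr ⟨hmemT e h1 hUe, h2', h3⟩
          · rintro (rfl | ⟨h1, h2', h3⟩)
            · exact ⟨one_mem _, fun u _ => Commute.one_right u⟩
            · exact ⟨h.mem_invGen_iff.mpr (Or.inr ⟨hTS h1, h2', h3⟩), hTU e h1⟩
        rw [show Nat.card {e : G // e ∈ invGen S c ∧ ∀ u ∈ U, Commute u e} =
            {e : G | e ∈ invGen S c ∧ ∀ u ∈ U, Commute u e}.ncard from rfl, hs,
          Set.ncard_insert_of_notMem (fun h' => by
            have h'' := h'.2.1
            rw [orderOf_one] at h''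
            exact absurd h'' (by norm_num)) (Set.toFinite _), invBar_eq_card (faithful_image hline)]
        congr 1
        refine Nat.card_eq_of_bijective (fun r : {r : G // r ∈ T ∧ orderOf r = 2 ∧ r • c = c} =>
          (⟨_, hinv r.1 r.2.1 r.2.2.1 r.2.2.2⟩ :
            {x : Equiv.Perm L // x ∈ I ∧ orderOf x = 2 ∧ x • c' = c'})) ⟨?_, ?_⟩
        · rintro ⟨x, hx, hx2, hxc⟩ ⟨y, hy, hy2, hyc⟩ e
          have e' : cPerm hline ⟨x, hx⟩ = cPerm hline ⟨y, hy⟩ := congrArg Subtype.val e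
          have hk : x * y ∈ kernel T L := (cPerm_eq_one_iff hline (⟨x, hx⟩ * ⟨y, hy⟩)).mp (by
            rw [map_mul, e', ← map_mul, show (⟨y, hy⟩ : T) * ⟨y, hy⟩ = 1 from
              Subtype.ext (mul_self_of_orderOf_eq_two hy2), map_one])
          refine Subtype.ext (eq_comm.mp ?_)
          by_contra hne
          have hne1 : x * y ≠ 1 := fun e1 => hne (by
            show y = x
            rw [mul_eq_one_iff_eq_inv.mp e1, inv_eq_of_orderOf_eq_two hy2])
          have hsq : x * y * (x * y) = 1 := by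
            rw [(h.comm x (hTS hx) y (hTS hy) hx2 hy2 hxc hyc).symm.mul_mul_mul_comm x y,
              mul_self_of_orderOf_eq_two hx2, mul_self_of_orderOf_eq_two hy2, one_mul]
          have h2' := Subgroup.orderOf_dvd_natCard _ hk
          rw [orderOf_eq_two_of_mul_self hsq hne1, ← even_iff_two_dvd] at h2'
          exact Nat.not_even_iff_odd.mpr hline.odd_kernel h2'
        · rintro ⟨x, hx, hx2, hxc⟩
          obtain ⟨r, rfl, -, hr2, hrc⟩ := hlift x hx hx2 hxc
          exact ⟨⟨r, r.2, hr2, hrc⟩, Subtype.ext rfl⟩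
      have hm : invBar I (Set.univ : Set L) c' ∣ invBar S C c := by
        rw [hset] at hgal
        have h1 := Nat.sub_dvd_pow_sub_pow (invBar I (Set.univ : Set L) c' + 1) 1 (Nat.card U)
        rwa [hgal, one_pow, Nat.add_sub_cancel, Nat.add_sub_cancel] at h1
      refine Nat.Coprime.coprime_dvd_right hm (Nat.Coprime.coprime_dvd_left ?_ h.coprime)
      have hle : pair I c' b' ⊓ centralizer ({w'} : Set (Equiv.Perm L)) ≤
          ((pairCent S c b w).subgroupOf T).map (cPerm hline) := by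
        rintro x ⟨hx1, hx2⟩
        obtain ⟨⟨d, rfl⟩, hdc, hdb⟩ := mem_pair.mp hx1
        have hdw := mem_centralizer_singleton_iff.mp hx2
        refine ⟨d, mem_subgroupOf.mpr (mem_pairCent.mpr ⟨mem_pair.mpr
          ⟨hTS d.2, congrArg Subtype.val hdc, congrArg Subtype.val hdb⟩, ?_⟩), rfl⟩
        have hxU := hker _ ((cPerm_eq_one_iff hline (d * ⟨w, hwT⟩ * d⁻¹ * ⟨w, hwT⟩)).mp (by
          rw [map_mul, map_mul, map_mul, map_inv, ← hw', hdw, mul_inv_cancel_right, hw', ← map_mul,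
            show (⟨w, hwT⟩ : T) * ⟨w, hwT⟩ = 1 from
              Subtype.ext (mul_self_of_orderOf_eq_two h.swap_inv), map_one]))
        change (d : G) * w * (d : G)⁻¹ * w ∈ U at hxU
        have hww := mul_self_of_orderOf_eq_two h.swap_inv
        set v := (d : G) * w * (d : G)⁻¹ * w with hv
        have hvw : v * w = (d : G) * w * (d : G)⁻¹ := by rw [hv, mul_assoc, hww, mul_one]
        have hsq : v * v = 1 := by
          have h4 : v * w * (v * w) = 1 := by
            rw [hvw]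
            calc (d : G) * w * (d : G)⁻¹ * ((d : G) * w * (d : G)⁻¹) =
                (d : G) * (w * w) * (d : G)⁻¹ := by group
              _ = 1 := by rw [hww, mul_one, mul_inv_cancel]
          rwa [(hUw v hxU).symm.mul_mul_mul_comm v w, hww, mul_one] at h4
        have hv1 : v = 1 := by
          by_contra hne
          have h3 := Subgroup.orderOf_dvd_natCard U hxU
          rw [orderOf_eq_two_of_mul_self hsq hne, ← even_iff_two_dvd] at h3
          exact Nat.not_even_iff_odd.mpr hUodd h3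
        rw [hv1, one_mul] at hvw
        exact mul_inv_eq_iff_eq_mul.mp hvw.symm
      have hd1 : Nat.card ((pairCent S c b w).subgroupOf T) ∣ Nat.card (pairCent S c b w) := by
        refine ((card_map_of_injective T.subtype_injective).symm.dvd).trans (card_dvd_of_le ?_)
        rintro _ ⟨x, hx, rfl⟩
        exact hx
      exact (card_dvd_of_le hle).trans ((Subgroup.card_map_dvd _ _).trans hd1)
  -- induction and counting
  have hout := ih (Equiv.Perm L) L I Set.univ c' b' w' hlt hallI hHyp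
  obtain ⟨i, hi⟩ := card_centInv_eq_pow hHyp (hall (Equiv.Perm L) L I Set.univ hlt) hout.nilpotent
  refine ⟨i, hi ▸ (Nat.card_eq_of_bijective
    (fun k : centInv I c' => (⟨((k : Equiv.Perm L) b').1, ((k : Equiv.Perm L) b').2.1, ?_,
      ((hLfix _).mp ((k : Equiv.Perm L) b').2).2⟩ :
        {z : Ω // z ∈ C ∧ z ≠ c ∧ ∀ u ∈ U, u • z = z})) ⟨?_, ?_⟩).symm⟩
  · intro e
    have e' : (k : Equiv.Perm L) b' = (k : Equiv.Perm L) c' :=
      (Subtype.ext e).trans (mem_ptStab.mp k.2.1).2.symm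
    exact h.ne (congrArg Subtype.val ((k : Equiv.Perm L).injective e')).symm
  · intro x y e
    have e' : (x : Equiv.Perm L) • b' = (y : Equiv.Perm L) • b' :=
      Subtype.ext (congrArg Subtype.val e :)
    refine Subtype.ext (inv_mul_eq_one.mp ?_).symm
    exact hout.semiregular _ (mul_mem (inv_mem y.2) x.2) b' (Set.mem_univ _)
      (fun e1 => h.ne (congrArg Subtype.val e1).symm) (by rw [mul_smul, e', inv_smul_smul])
  · rintro ⟨z, hz, hzc, hUz⟩
    obtain ⟨g, hg, hgc, hgz⟩ := hHyp.twoTrans c' (Set.mem_univ _) b' (Set.mem_univ _)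
      (⟨z, (hLfix z).mpr ⟨hz, hUz⟩⟩ : L) (Set.mem_univ _)
      (fun e => h.ne (congrArg Subtype.val e).symm) (fun e => hzc (congrArg Subtype.val e))
    obtain ⟨k, hk, d, hd, rfl⟩ := hout.cover b' (Set.mem_univ _)
      (fun e => h.ne (congrArg Subtype.val e).symm) g (mem_ptStab.mpr ⟨hg, hgc⟩)
    rw [mul_smul, (mem_pair.mp hd).2.2] at hgz
    exact ⟨⟨k, hk⟩, Subtype.ext (congrArg Subtype.val hgz :)⟩

end Cfsg.Agent.H62.Bender.Lambda
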