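import Cfsg.Agent.Cores.SE.CoreWrapper
import Cfsg.Agent.H53.SE.PairStruct

/-!
LAMBDA: in a faithful action where the involutions at `c` commute, the pair stabiliser is faithful
on them and the centraliser of a swapper in it has order prime to their number, the stabiliser of
`c` is a nilpotent regular normal subgroup centralising these involutions, extended by the pair
stabiliser.  The induction is relative to commuting involutions: lines inherit this property.
-/

set_option autoImplicit false

namespace Cfsg.Agent.H62.Bender.Lambda

open Subgroup MulAction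
open Cfsg.Agent.H73.Bender
open Cfsg.Agent.H53.SE
open Cfsg.Agent.Cores.SE

universe u

variable {G : Type u} [Group G] {Ω : Type u} [MulAction G Ω]

/-- The centraliser in the stabiliser of `c` of the involutions at `c`. -/
def centInv (S : Subgroup G) (c : Ω) : Subgroup G :=
  ptStab S c ⊓ centralizer (invGen S c : Set G)

/-- The statement of the odd core theorem below a group order, for all groups. -/
def CoreAll (n : ℕ) : Prop :=
  ∀ (G' : Type u) [Group G'] [Finite G'] (Ω' : Type u) [MulAction G' Ω'] [Finite Ω']
    (T : Subgroup G') (C' : Set Ω'), Nat.card T < n → CoreAt T C'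

/-- The hypotheses on the pair `(c, b)` with swapper `w`. -/
structure Hyp (S : Subgroup G) (C : Set Ω) (c b : Ω) (w : G) : Prop where
  se : SE S C
  rankTwo : RankTwo S
  faithful : Faithful S C
  mem_left : c ∈ C
  mem_right : b ∈ C
  ne : c ≠ b
  swap_mem : w ∈ S
  swap_inv : orderOf w = 2
  swap : w • c = b
  comm : CommAt S c
  pair_cent : pair S c b ⊓ centralizer (invGen S c : Set G) = ⊥
  coprime : (Nat.card (pair S c b ⊓ centralizer ({w} : Set G) : Subgroup G)).Coprime (invBar S C c)

/-- Every `2`-element at `c` commutes with the involutions at `c`. -/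
def TwoCentral (S : Subgroup G) (c : Ω) : Prop :=
  ∀ v ∈ ptStab S c, (∃ k, orderOf v = 2 ^ k) →
    ∀ t ∈ S, orderOf t = 2 → t • c = c → Commute v t

/-- The conclusion. -/
structure Out (S : Subgroup G) (C : Set Ω) (c : Ω) : Prop where
  two_central : TwoCentral S c
  semiregular : ∀ k ∈ centInv S c, ∀ z ∈ C, z ≠ c → k • z = z → k = 1
  cover : ∀ z ∈ C, z ≠ c → ∀ h ∈ ptStab S c, ∃ k ∈ centInv S c, ∃ d ∈ pair S c z, h = k * d
  nilpotent : Group.IsNilpotent (centInv S c)

namespace Targets

/-- Step 4: the centraliser of the swapper in the pair stabiliser has prime order `l` and each of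
its non-trivial elements fixes a single involution at `c`. -/
def FieldPrime : Prop :=
  ∀ (G : Type u) [Group G] [Finite G] (Ω : Type u) [MulAction G Ω] [Finite Ω] (S : Subgroup G)
    (C : Set Ω) (c b : Ω) (w : G), CoreAll.{u} (Nat.card S) → Hyp S C c b w →
    (Nat.card (pair S c b ⊓ centralizer ({w} : Set G) : Subgroup G)).Prime →
    (∀ d ∈ pair S c b, Commute d w → d ≠ 1 →
      ∀ s ∈ S, orderOf s = 2 → s • c = c → Commute d s →
        ∀ t ∈ S, orderOf t = 2 → t • c = c → Commute d t → s = t) →
    TwoCentral S c

/-- LAMBDA. -/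
def LambdaThm : Prop :=
  ∀ (G : Type u) [Group G] [Finite G] (Ω : Type u) [MulAction G Ω] [Finite Ω] (S : Subgroup G)
    (C : Set Ω) (c b : Ω) (w : G), CoreAll.{u} (Nat.card S) → Hyp S C c b w → Out S C c

end Targets

end Cfsg.Agent.H62.Bender.Lambda
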