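import Cfsg.Agent.H62.Bender.Lambda.Field
import Mathlib.GroupTheory.Transfer
import Mathlib.GroupTheory.PGroup
import Mathlib.Algebra.Ring.GeomSum

/-!
Step 3 of LAMBDA: outside the field automorphism case the point stabiliser has a normal
`p`-complement for every prime divisor `p` of the centraliser of the swapper.
-/

set_option autoImplicit false
set_option linter.style.haveILetI false

namespace Cfsg.Agent.H62.Bender.Lambda

open Subgroup MulAction
open Cfsg.Agent.H39
open Cfsg.Agent.H73.Bender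
open Cfsg.Agent.H53.SE
open Cfsg.Agent.Cores.SE

universe u

variable {G : Type u} [Group G] {Ω : Type u} [MulAction G Ω]

/-- The points of `C` other than `c` fixed by `U`. -/
def fixOff (C : Set Ω) (c : Ω) (U : Subgroup G) : Set Ω :=
  {z | z ∈ C ∧ z ≠ c ∧ ∀ u ∈ U, u • z = z}

/-- What the induction gives on the line of a subgroup of the centraliser of the swapper. -/
def ChildConcl (S : Subgroup G) (C : Set Ω) (c b : Ω) (w : G) : Prop :=
  ∀ U : Subgroup G, U ≤ pairCent S c b w → U ≠ ⊥ →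
    (∀ d ∈ pair S c b, d ∈ normalizer (U : Set G) → ∀ u ∈ U, Commute d u) →
    (∃ s ∈ invGen S c, ∃ t ∈ invGen S c, s ≠ 1 ∧ t ≠ 1 ∧ s ≠ t ∧ (∀ u ∈ U, Commute u s) ∧
      ∀ u ∈ U, Commute u t) →
    (∀ d ∈ pair S c b, (∀ s ∈ invGen S c, (∀ u ∈ U, Commute u s) → Commute d s) → d ∈ U) →
    (∃ i, Nat.card (fixOff C c U) = 2 ^ i) ∧
      ∀ g ∈ ptStab S c, g ∈ normalizer (U : Set G) → ∀ u ∈ U, Commute g u

/-- In a cyclic group two subgroups of one order are equal. -/
theorem eq_of_card_eq_of_isCyclic [Finite G] {P : Subgroup G} [IsCyclic P] {U V : Subgroup G}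
    (hU : U ≤ P) (hV : V ≤ P) (hcard : Nat.card V = Nat.card U) : V = U := by
  classical
  haveI : Fintype P := Fintype.ofFinite P
  have hn : 0 < Nat.card U := Nat.card_pos
  set T : Set P := {x | x ^ Nat.card U = 1} with hT
  have hTle : T.ncard ≤ Nat.card U := by
    have h := IsCyclic.card_pow_eq_one_le (α := P) hn
    refine le_trans (le_of_eq ?_) h
    rw [← Set.ncard_coe_finset]
    congr 1
    ext x
    simp [hT]
  have key : ∀ W : Subgroup G, W ≤ P → Nat.card W = Nat.card U →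
      ((W.subgroupOf P : Subgroup P) : Set P) = T := by
    intro W hW hWc
    refine Set.eq_of_subset_of_ncard_le (fun x hx => ?_) (hTle.trans (le_of_eq ?_)) (Set.toFinite _)
    · have h2 := orderOf_dvd_iff_pow_eq_one.mp
        (Subgroup.orderOf_dvd_natCard W (Subgroup.mem_subgroupOf.mp hx))
      rw [hWc] at h2
      exact Subtype.ext h2
    · rw [← hWc, ← Nat.card_congr (subgroupOfEquivOfLe hW).toEquiv]
      rfl
  have h : V.subgroupOf P = U.subgroupOf P :=
    SetLike.coe_injective ((key V hV hcard).trans (key U hU rfl).symm)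
  rw [← map_subgroupOf_eq_of_le hV, ← map_subgroupOf_eq_of_le hU, h]

/-- An element of order prime to `p` normalising a cyclic `p`-group and centralising a non-trivial
subgroup of it centralises it. -/
theorem commute_of_commute_sub [Finite G] {p : ℕ} [hp : Fact p.Prime] {P U : Subgroup G}
    [IsCyclic P] (hP : IsPGroup p P) (hUP : U ≤ P) (hU : U ≠ ⊥) {g : G}
    (hg : g ∈ normalizer (P : Set G)) (hgp : ¬ p ∣ orderOf g) (hgU : ∀ u ∈ U, Commute g u) :
    ∀ y ∈ P, Commute g y := by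
  obtain ⟨⟨y, hy⟩, hgen⟩ := IsCyclic.exists_generator (α := P)
  have hgen' : ∀ z ∈ P, ∃ k : ℤ, y ^ k = z := fun z hz => by
    obtain ⟨k, hk⟩ := mem_zpowers_iff.mp (hgen ⟨z, hz⟩)
    exact ⟨k, congrArg Subtype.val hk⟩
  suffices h : Commute g y by
    intro z hz
    obtain ⟨k, rfl⟩ := hgen' z hz
    exact h.zpow_right k
  obtain ⟨s, hs⟩ := hgen' _ ((Subgroup.mem_normalizer_iff.mp hg y).mp hy)
  obtain ⟨u, hu, hu1⟩ : ∃ u ∈ U, u ≠ 1 := U.ne_bot_iff_exists_ne_one.mp hU |>.elim fun u hu =>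
    ⟨u, u.2, fun h => hu (Subtype.ext h)⟩
  obtain ⟨e, he⟩ := hgen' u (hUP hu)
  have hconj : ∀ (k : ℤ), g * y ^ k * g⁻¹ = y ^ (s * k) := fun k => by
    rw [← conj_zpow, ← hs, zpow_mul]
  -- the exponent is `1` modulo `p`
  have hdvd : (orderOf y : ℤ) ∣ (s - 1) * e := by
    refine orderOf_dvd_iff_zpow_eq_one.mpr ?_
    rw [sub_mul, one_mul, zpow_sub, ← hconj, he, (hgU u hu).eq, mul_inv_cancel_right,
      mul_inv_cancel]
  obtain ⟨a, ha⟩ := (IsPGroup.iff_orderOf.mp hP) ⟨y, hy⟩
  rw [Subgroup.orderOf_mk] at ha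
  rw [ha] at hdvd
  have hps : (p : ℤ) ∣ s - 1 := by
    by_contra h
    have hcop : IsCoprime ((p ^ a : ℕ) : ℤ) (s - 1) := by
      push_cast
      exact ((Int.prime_iff_natAbs_prime.mpr (by simpa using hp.out)).coprime_iff_not_dvd.mpr h).pow_left
    have h1 := hcop.dvd_of_dvd_mul_left hdvd
    rw [← ha] at h1
    exact hu1 (he ▸ orderOf_dvd_iff_zpow_eq_one.mp h1)
  -- iterate
  have hpow : ∀ n : ℕ, g ^ n * y * (g ^ n)⁻¹ = y ^ (s ^ n) := by
    intro n
    induction n with
    | zero => simp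
    | succ n ih =>
      rw [pow_succ', show g * g ^ n * y * (g * g ^ n)⁻¹ = g * (g ^ n * y * (g ^ n)⁻¹) * g⁻¹ by group,
        ih, hconj, pow_succ']
  set n := orderOf g with hn
  have hsn : (orderOf y : ℤ) ∣ s ^ n - 1 := by
    refine orderOf_dvd_iff_zpow_eq_one.mpr ?_
    rw [zpow_sub, ← hpow n, hn, pow_orderOf_eq_one]
    simp
  rw [← geom_sum_mul, ha] at hsn
  have hsum : ¬ (p : ℤ) ∣ ∑ i ∈ Finset.range n, s ^ i := by
    intro h
    have h1 : ∀ i ∈ Finset.range n, (p : ℤ) ∣ s ^ i - 1 := fun i _ =>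
      hps.trans (by simpa using sub_dvd_pow_sub_pow s 1 i)
    have h2 : (p : ℤ) ∣ ∑ i ∈ Finset.range n, (s ^ i - 1) := Finset.dvd_sum h1
    rw [Finset.sum_sub_distrib] at h2
    have h3 : (p : ℤ) ∣ (n : ℤ) := by simpa using (dvd_sub h h2)
    exact hgp (Int.natCast_dvd_natCast.mp h3)
  have hcop : IsCoprime ((p ^ a : ℕ) : ℤ) (∑ i ∈ Finset.range n, s ^ i) := by
    push_cast
    exact ((Int.prime_iff_natAbs_prime.mpr (by simpa using hp.out)).coprime_iff_not_dvd.mpr hsum).pow_left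
  have h1 := hcop.dvd_of_dvd_mul_left hsn
  rw [← ha] at h1
  have h2 : y ^ s = y := by
    have h3 := orderOf_dvd_iff_zpow_eq_one.mp h1
    rwa [zpow_sub, zpow_one, mul_inv_eq_one] at h3
  rw [h2] at hs
  exact (mul_inv_eq_iff_eq_mul.mp hs.symm)

variable [Finite G] [Finite Ω] {S : Subgroup G} {C : Set Ω} {c b : Ω} {w : G}

/-- Outside the field automorphism case the point stabiliser has a normal `p`-complement. -/
theorem exists_complement (h : Hyp S C c b w) (hchild : ChildConcl S C c b w) {p : ℕ}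
    [hp : Fact p.Prime] (hpF : p ∣ Nat.card (pairCent S c b w))
    (hnot : ¬ (Nat.card (pairCent S c b w) = p ∧ invBar S C c + 1 = 2 ^ p)) :
    ∃ N : Subgroup G, N ≤ ptStab S c ∧ ptStab S c ≤ normalizer (N : Set G) ∧ ¬ p ∣ Nat.card N ∧
      ∀ g ∈ ptStab S c, ¬ p ∣ orderOf g → g ∈ N := by
  classical
  obtain ⟨A, t, hAset, hAD, hAn, hAcyc, hAcard, hfpf, hdec, ht, hiff, htr⟩ := h.exists_frame
  obtain ⟨hFcyc, hgal⟩ := h.pairCent_galois
  set F := pairCent S c b w with hF
  set D := pair S c b with hD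
  set H := ptStab S c with hH
  have hFD : F ≤ D := inf_le_left
  have hDH : D ≤ H := fun g hg => mem_ptStab.mpr ⟨(mem_pair.mp hg).1, (mem_pair.mp hg).2.1⟩
  haveI := hFcyc
  have hFc : ∀ x ∈ F, ∀ y ∈ F, Commute x y := fun x hx y hy => by
    letI := IsCyclic.commGroup (α := F)
    exact congrArg Subtype.val (mul_comm (⟨x, hx⟩ : F) ⟨y, hy⟩)
  -- the Sylow subgroup of `F`
  obtain ⟨R⟩ : Nonempty (Sylow p F) := inferInstance
  set P : Subgroup G := (R : Subgroup F).map F.subtype with hPdef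
  have hPF : P ≤ F := map_subtype_le _
  have hPp : IsPGroup p P := R.2.map _
  have hPcard : Nat.card P = p ^ (Nat.card F).factorization p := by
    rw [hPdef, card_map_of_injective F.subtype_injective, R.card_eq_multiplicity]
  obtain ⟨a, ha1, haP⟩ : ∃ a, 1 ≤ a ∧ Nat.card P = p ^ a :=
    ⟨_, hp.out.factorization_pos_of_dvd Nat.card_pos.ne' hpF, hPcard⟩
  haveI : IsCyclic P := Subgroup.isCyclic_of_le hPF
  -- the fixed sets
  set q := invBar S C c + 1 with hq
  let fx : Subgroup G → ℕ := fun U => Nat.card {e : G // e ∈ invGen S c ∧ ∀ u ∈ U, Commute u e}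
  have htE : t ∈ invGen S c := h.mem_invGen_iff.mpr (Or.inr ht)
  have ht1 : t ≠ 1 := fun h1 => by
    have h2 := ht.2.1
    rw [h1, orderOf_one] at h2
    exact absurd h2 (by norm_num)
  have hFt : ∀ f ∈ F, Commute f t := fun f hf => (hiff f (hFD hf)).mpr hf
  have hfx2 : ∀ U : Subgroup G, U ≤ F → 2 ≤ fx U := by
    intro U hU
    have e : fx U = {e : G | e ∈ invGen S c ∧ ∀ u ∈ U, Commute u e}.ncard := rfl
    rw [e, Nat.succ_le_iff, Set.one_lt_ncard (Set.toFinite _)]
    exact ⟨1, ⟨one_mem _, fun u _ => Commute.one_right u⟩, t, ⟨htE, fun u hu => hFt u (hU hu)⟩,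
      Ne.symm ht1⟩
  obtain ⟨U, hUP, hUne, hU3⟩ : ∃ U ≤ P, U ≠ ⊥ ∧ 2 < fx U := by
    rcases Nat.eq_or_lt_of_le (hfx2 P hPF) with h2 | h2
    · have hqP : 2 ^ Nat.card P = q := h2 ▸ hgal P hPF
      have hlP : Nat.card F = Nat.card P := by
        refine le_antisymm ?_ (Nat.le_of_dvd Nat.card_pos (card_dvd_of_le hPF))
        have h3 : 2 ^ Nat.card F ≤ 2 ^ Nat.card P := by
          rw [hqP]
          exact (Nat.pow_le_pow_left (hfx2 F le_rfl) _).trans (le_of_eq (hgal F le_rfl))
        exact (Nat.pow_le_pow_iff_right Nat.one_lt_two).mp h3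
      have ha2 : 2 ≤ a := by
        by_contra hlt
        obtain rfl : a = 1 := by omega
        rw [pow_one] at haP
        exact hnot ⟨hlP.trans haP, by rw [← hqP, haP]⟩
      obtain ⟨U₀, hU₀⟩ := Sylow.exists_subgroup_card_pow_prime p
        (show p ^ (a - 1) ∣ Nat.card P by rw [haP]; exact pow_dvd_pow p (by omega))
      have hUle : U₀.map P.subtype ≤ P := map_subtype_le _
      have hUcard : Nat.card (U₀.map P.subtype) = p ^ (a - 1) := by
        rw [card_map_of_injective P.subtype_injective, hU₀]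
      refine ⟨_, hUle, fun hb => ?_, ?_⟩
      · rw [hb, Subgroup.card_bot] at hUcard
        have := Nat.one_lt_pow (show a - 1 ≠ 0 by omega) hp.out.one_lt
        omega
      · refine lt_of_le_of_ne (hfx2 _ (hUle.trans hPF)) fun h3 => ?_
        have h4 := hgal _ (hUle.trans hPF)
        rw [← hqP, hUcard, haP, show Nat.card {e : G // e ∈ invGen S c ∧ ∀ u ∈ U₀.map P.subtype, Commute u e} = 2 from h3.symm] at h4
        have h5 := Nat.pow_right_injective le_rfl h4
        have h6 := Nat.pow_right_injective hp.out.two_le h5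
        omega
    · refine ⟨P, le_rfl, fun hb => ?_, h2⟩
      rw [hb, Subgroup.card_bot] at haP
      have := Nat.one_lt_pow (show a ≠ 0 by omega) hp.out.one_lt
      omega
  have hUF : U ≤ F := hUP.trans hPF
  -- the hypotheses of the line
  have hAF : ∀ x ∈ A, x ∈ F → x = 1 := fun x hx hxF =>
    hfpf x hx t ht.1 ht.2.1 ht.2.2 (hFt x hxF)
  have hab : ∀ d ∈ D, d ∈ normalizer (U : Set G) → ∀ u ∈ U, Commute d u := by
    intro d hd hdN u hu
    obtain ⟨j, hj, f, hf, rfl⟩ := hdec d hd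
    have hfu : f * u * f⁻¹ = u := by rw [(hFc f hf u (hUF hu)).eq, mul_inv_cancel_right]
    have h1 : j * u * j⁻¹ ∈ U := by
      have h2 := (Subgroup.mem_normalizer_iff.mp hdN u).mp hu
      rwa [show j * f * u * (j * f)⁻¹ = j * (f * u * f⁻¹) * j⁻¹ by group, hfu] at h2
    have h2 : j * u * j⁻¹ * u⁻¹ ∈ A := by
      rw [show j * u * j⁻¹ * u⁻¹ = j * (u * j⁻¹ * u⁻¹) by group]
      exact mul_mem hj ((Subgroup.mem_normalizer_iff.mp (hAn (hFD (hUF hu))) _).mp (inv_mem hj))
    have h3 := hAF _ h2 (mul_mem (hUF h1) (inv_mem (hUF hu)))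
    exact Commute.mul_left (mul_inv_eq_iff_eq_mul.mp (mul_inv_eq_one.mp h3)) (hFc f hf u (hUF hu))
  have hclosed : ∀ d ∈ D, (∀ s ∈ invGen S c, (∀ u ∈ U, Commute u s) → Commute d s) → d ∈ U := by
    intro d hd hcd
    have hdF : d ∈ F := (hiff d hd).mp (hcd t htE fun u hu => hFt u (hUF hu))
    set V : Subgroup G := U ⊔ zpowers d with hV
    have hVF : V ≤ F := sup_le hUF (zpowers_le.mpr hdF)
    have hfxV : fx V = fx U := by
      refine Nat.card_congr (Equiv.subtypeEquivRight fun e => and_congr_right fun heE => ?_)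
      refine ⟨fun h' u hu => h' u (mem_sup_left hu), fun h' u hu => ?_⟩
      have hle : V ≤ centralizer ({e} : Set G) := sup_le
        (fun x hx => mem_centralizer_singleton_iff.mpr (h' x hx))
        (zpowers_le.mpr (mem_centralizer_singleton_iff.mpr (hcd e heE h').eq))
      exact mem_centralizer_singleton_iff.mp (hle hu)
    have h1 : fx U ^ Nat.card V = fx U ^ Nat.card U :=
      ((hfxV ▸ hgal V hVF : fx U ^ Nat.card V = q)).trans (hgal U hUF).symm
    have h2 : Nat.card V = Nat.card U := Nat.pow_right_injective (hfx2 U hUF) h1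
    have h3 : U = V := Subgroup.eq_of_le_of_card_ge le_sup_left (le_of_eq h2)
    rw [h3]
    exact mem_sup_right (mem_zpowers d)
  have h2inv : ∃ s ∈ invGen S c, ∃ t ∈ invGen S c, s ≠ 1 ∧ t ≠ 1 ∧ s ≠ t ∧
      (∀ u ∈ U, Commute u s) ∧ ∀ u ∈ U, Commute u t := by
    have e : fx U = {e : G | e ∈ invGen S c ∧ ∀ u ∈ U, Commute u e}.ncard := rfl
    rw [e, Set.two_lt_ncard_iff (Set.toFinite _)] at hU3
    obtain ⟨x, y, z, hx, hy, hz, hxy, hxz, hyz⟩ := hU3
    by_cases h1 : x = 1
    · exact ⟨y, hy.1, z, hz.1, fun e => hxy (h1.trans e.symm), fun e => hxz (h1.trans e.symm), hyz,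
        hy.2, hz.2⟩
    by_cases h2 : y = 1
    · exact ⟨x, hx.1, z, hz.1, h1, fun e => hyz (h2.trans e.symm), hxz, hx.2, hz.2⟩
    exact ⟨x, hx.1, y, hy.1, h1, h2, hxy, hx.2, hy.2⟩
  obtain ⟨⟨i, hi⟩, hcent⟩ := hchild U hUF hUne hab h2inv hclosed
  -- the orbit of the other points
  let X : Set Ω := {z | z ∈ C ∧ z ≠ c}
  have hbX : b ∈ X := ⟨h.mem_right, Ne.symm h.ne⟩
  have hXmem : ∀ g ∈ H, ∀ z ∈ X, g • z ∈ X := fun g hg z hz =>
    ⟨h.se.smul_mem (mem_ptStab.mp hg).1 hz.1,
      fun e => hz.2 (MulAction.injective g (e.trans (mem_ptStab.mp hg).2.symm))⟩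
  letI : MulAction H X :=
    { smul := fun g z => ⟨(g : G) • z.1, hXmem g g.2 z z.2⟩
      one_smul := fun z => Subtype.ext (one_smul G z.1)
      mul_smul := fun g g' z => Subtype.ext (mul_smul (g : G) (g' : G) z.1) }
  haveI : IsPretransitive H X := ⟨fun x y => by
    obtain ⟨g, hg, hgc, hgx⟩ := h.twoTrans c h.mem_left x.1 x.2.1 y.1 y.2.1 x.2.2 y.2.2
    exact ⟨⟨g, mem_ptStab.mpr ⟨hg, hgc⟩⟩, Subtype.ext hgx⟩⟩
  have hstab : stabilizer H (⟨b, hbX⟩ : X) = D.subgroupOf H := by
    ext g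
    rw [mem_stabilizer_iff, mem_subgroupOf]
    exact ⟨fun e => mem_pair.mpr ⟨(mem_ptStab.mp g.2).1, (mem_ptStab.mp g.2).2,
      congrArg Subtype.val e⟩, fun e => Subtype.ext (mem_pair.mp e).2.2⟩
  have hidx : (D.subgroupOf H).index = Nat.card X := by
    rw [← hstab, index_stabilizer_of_transitive]
  have hUH : U ≤ H := hUF.trans (hFD.trans hDH)
  letI : MulAction U X := MulAction.compHom X (Subgroup.inclusion hUH)
  have hUp : IsPGroup p U := hPp.to_le hUP
  have hfix : Nat.card (fixedPoints U X) = Nat.card (fixOff C c U) :=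
    Nat.card_congr
      { toFun := fun z => ⟨z.1.1, z.1.2.1, z.1.2.2, fun u hu => congrArg Subtype.val (z.2 ⟨u, hu⟩)⟩
        invFun := fun z => ⟨⟨z.1, z.2.1, z.2.2.1⟩, fun u => Subtype.ext (z.2.2.2 u u.2)⟩
        left_inv := fun z => rfl
        right_inv := fun z => rfl }
  have hpodd : p ≠ 2 := fun e => by
    have h1 : Odd (Nat.card F) :=
      (h.se.odd_pair h.mem_left h.mem_right h.ne).of_dvd_nat (card_dvd_of_le hFD)
    exact absurd (h1.of_dvd_nat hpF) (by rw [e]; decide)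
  have hXp : ¬ p ∣ Nat.card X := fun hd => by
    have h1 := (hUp.card_modEq_card_fixedPoints X).dvd_iff dvd_rfl |>.mp hd
    rw [hfix, hi] at h1
    exact hpodd ((Nat.prime_dvd_prime_iff_eq hp.out Nat.prime_two).mp (hp.out.dvd_of_dvd_pow h1))
  -- `P` is a Sylow subgroup of the point stabiliser
  have hAp : ¬ p ∣ Nat.card A := fun hd => hp.out.not_dvd_one
    (h.coprime ▸ Nat.dvd_gcd hpF (hAcard ▸ hd))
  have hPH : P ≤ H := hPF.trans (hFD.trans hDH)
  set P' : Subgroup H := P.subgroupOf H with hP'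
  have hP'p : IsPGroup p P' := hPp.comap_subtype
  have hP'idx : ¬ p ∣ P'.index := by
    have hAF' : A ⊓ F = ⊥ := eq_bot_iff.mpr fun x hx => mem_bot.mpr (hAF x hx.1 hx.2)
    have hle : P' ≤ D.subgroupOf H := fun x hx => mem_subgroupOf.mpr (hFD (hPF (mem_subgroupOf.mp hx)))
    rw [← relIndex_mul_index hle, hidx]
    intro hd
    rcases (Nat.Prime.dvd_mul hp.out).mp hd with h1 | h1
    · rw [hP', relIndex_subgroupOf hDH, ← relIndex_mul_relIndex P F D hPF hFD] at h1
      rcases (Nat.Prime.dvd_mul hp.out).mp h1 with h2 | h2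
      · refine R.not_dvd_index ?_
        rwa [hPdef, Subgroup.relIndex, Subgroup.subgroupOf,
          comap_map_eq_self_of_injective F.subtype_injective] at h2
      · refine hAp (h2.trans ?_)
        have hFA : F.relIndex D ≤ Nat.card A := by
          refine Nat.card_le_card_of_surjective
            (fun j : A => (QuotientGroup.mk ⟨(j : G), hAD j.2⟩ : D ⧸ F.subgroupOf D)) ?_
          rintro ⟨d⟩
          obtain ⟨j, hj, f, hf, e⟩ := hdec d d.2
          refine ⟨⟨j, hj⟩, QuotientGroup.eq.mpr (mem_subgroupOf.mpr ?_)⟩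
          show j⁻¹ * (d : G) ∈ F
          rw [e, inv_mul_cancel_left]
          exact hf
        have hAD' : Nat.card A ∣ F.relIndex D * Nat.card F := by
          have h3 : Nat.card A ∣ Nat.card D := card_dvd_of_le hAD
          rwa [← relIndex_bot_left, ← relIndex_bot_left, ← relIndex_mul_relIndex ⊥ F D bot_le hFD,
            mul_comm, relIndex_bot_left, relIndex_bot_left] at h3
        have hAdvd : Nat.card A ∣ F.relIndex D :=
          (Nat.Coprime.symm (hAcard ▸ h.coprime)).dvd_of_dvd_mul_right hAD'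
        exact dvd_of_eq (le_antisymm hFA (Nat.le_of_dvd (Nat.pos_of_ne_zero
          (Nat.card_pos (α := D ⧸ F.subgroupOf D)).ne') hAdvd))
    · exact hXp h1
  let Q : Sylow p H := hP'p.toSylow hP'idx
  have hQ : normalizer ((Q : Subgroup H) : Set H) ≤ centralizer ((Q : Subgroup H) : Set H) := by
    intro g hg
    have hgN : (g : G) ∈ normalizer (P : Set G) := by
      refine Subgroup.mem_normalizer_iff.mpr fun y => ⟨fun hy => ?_, fun hy => ?_⟩
      · exact mem_subgroupOf.mp ((Subgroup.mem_normalizer_iff.mp hg ⟨y, hPH hy⟩).mp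
          (mem_subgroupOf.mpr hy))
      · have hy' : y ∈ H := by
          simpa [mul_assoc] using mul_mem (mul_mem (inv_mem g.2) (hPH hy)) g.2
        exact mem_subgroupOf.mp ((Subgroup.mem_normalizer_iff.mp hg ⟨y, hy'⟩).mpr
          (mem_subgroupOf.mpr hy))
    have hgU : ∀ {x : G}, x ∈ normalizer (P : Set G) → x ∈ normalizer (U : Set G) := by
      intro x hx
      have hle : U.map (MulAut.conj x).toMonoidHom ≤ P := by
        rintro _ ⟨u, hu, rfl⟩
        exact (Subgroup.mem_normalizer_iff.mp hx u).mp (hUP hu)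
      exact H39.mem_normalizer_iff_map_conj.mpr (eq_of_card_eq_of_isCyclic hUP hle
        (card_map_of_injective (MulAut.conj x).injective))
    -- the part of order prime to `p` and the `p`-part
    obtain ⟨k, o, ho, hko⟩ := Nat.exists_eq_pow_mul_and_not_dvd (orderOf_pos (g : G)).ne' p hp.out.ne_one
    have h1 : ∀ y ∈ P, Commute ((g : G) ^ p ^ k) y := by
      refine commute_of_commute_sub hPp hUP hUne (pow_mem hgN _) ?_ fun u hu => ?_
      · rw [orderOf_pow' _ (pow_ne_zero _ hp.out.ne_zero), hko, Nat.gcd_mul_right_left,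
          Nat.mul_div_cancel_left _ (pow_pos hp.out.pos k)]
        exact ho
      · exact hcent _ (pow_mem g.2 _) (hgU (pow_mem hgN _)) u hu
    have h2 : g ^ o ∈ P' := by
      have hpow : IsPGroup p (zpowers (g ^ o)) := by
        refine IsPGroup.of_card (n := k) ?_
        rw [Nat.card_zpowers, ← Subgroup.orderOf_coe, Subgroup.coe_pow,
          orderOf_pow' _ (fun e => ho (by rw [e]; exact dvd_zero p)), hko, Nat.gcd_mul_left_left,
          Nat.mul_div_cancel _ (Nat.pos_of_ne_zero fun e => ho (by rw [e]; exact dvd_zero p))]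
      have hnz : zpowers (g ^ o) ≤ normalizer (P' : Set H) := zpowers_le.mpr (pow_mem hg o)
      have hsup : IsPGroup p ((zpowers (g ^ o)) ⊔ P' : Subgroup H) :=
        IsPGroup.to_sup_of_normal_right' hpow hP'p hnz
      exact (Q.3 hsup le_sup_right).le (mem_sup_left (mem_zpowers _))
    refine mem_centralizer_iff.mpr fun y hy => Subtype.ext ?_
    have hy' : (y : G) ∈ P := mem_subgroupOf.mp hy
    have hcp : Commute ((g : G) ^ o) (y : G) := by
      letI := IsCyclic.commGroup (α := P)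
      exact congrArg Subtype.val (mul_comm (⟨_, mem_subgroupOf.mp h2⟩ : P) ⟨y, hy'⟩)
    have hgmem : (g : G) ∈ centralizer ({(y : G)} : Set G) := by
      have hco : (p ^ k).Coprime o := (hp.out.coprime_iff_not_dvd.mpr ho).pow_left k
      have hb := Nat.gcd_eq_gcd_ab (p ^ k) o
      rw [hco.gcd_eq_one] at hb
      rw [← zpow_one (g : G), show (1 : ℤ) = _ from hb, zpow_add, zpow_mul, zpow_mul, zpow_natCast,
        zpow_natCast]
      exact mul_mem (zpow_mem (mem_centralizer_singleton_iff.mpr (h1 _ hy')) _)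
        (zpow_mem (mem_centralizer_singleton_iff.mpr hcp.eq) _)
    exact (mem_centralizer_singleton_iff.mp hgmem).symm
  refine ⟨(MonoidHom.transferSylow Q hQ).ker.map H.subtype, map_subtype_le _, fun g hg => ?_, ?_,
    fun g hg hgo => ⟨⟨g, hg⟩, ?_, rfl⟩⟩
  · refine le_normalizer_map _ ⟨⟨g, hg⟩, ?_, rfl⟩
    rw [normalizer_eq_top]; exact mem_top _
  · rw [card_map_of_injective H.subtype_injective]
    exact MonoidHom.not_dvd_card_ker_transferSylow Q hQ
  · rw [SetLike.mem_coe, MonoidHom.mem_ker]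
    obtain ⟨e, he⟩ := (IsPGroup.iff_orderOf.mp Q.2) (MonoidHom.transferSylow Q hQ ⟨g, hg⟩)
    rw [← orderOf_eq_one_iff, he]
    rcases Nat.eq_zero_or_pos e with rfl | hpos
    · exact pow_zero p
    refine absurd ?_ hgo
    have h1 := (dvd_pow_self p hpos.ne').trans
      (he ▸ orderOf_map_dvd (MonoidHom.transferSylow Q hQ) (⟨g, hg⟩ : H))
    rwa [Subgroup.orderOf_mk] at h1

end Cfsg.Agent.H62.Bender.Lambda
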